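import Cfsg.Agent.Lib.SmallDegreeTI.Structure
import Cfsg.Agent.Lib.Characters.Kernel

/-!
# A character of small degree makes the normal closure of `P` abelian
-/

namespace Cfsg.Agent.Lib.SmallDegreeTI.Main

open scoped ComplexConjugate
open scoped Classical
open scoped commutatorElement
open Cfsg.Agent.Lib.SmallDegreeTI.Setup Cfsg.Agent.Lib.SmallDegreeTI.Induce
open Cfsg.Agent.Lib.SmallDegreeTI.Coeff Cfsg.Agent.Lib.SmallDegreeTI.Structure
open Cfsg.Agent.Lib.Induced.Basic Cfsg.Agent.Lib.Characters.Basic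
open Cfsg.Agent.Lib.Characters.Linear Cfsg.Agent.Lib.Characters.Kernel

universe u

set_option linter.unusedSectionVars false

variable {G : Type u} [Group G] [Fintype G] {p : ℕ} [Fact p.Prime] {P : Sylow p G}
variable [Fintype (cen P)] [Fintype (nor P)] [Fintype (Cfsg.IrrCharacter (cen P))]

/-- A moving twist differing on `P` from each member of a small set. -/
theorem exists_tw_avoid (hs : SameCen P) (φ : Cfsg.IrrCharacter (cen P))
    (S : Finset (Cfsg.IrrCharacter (cen P))) (hS : S.card + 1 < Nat.card (P : Subgroup G)) :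
    ∃ L : Dual hs, Moving (tw L φ) ∧ ∀ f ∈ S, ∃ y ∈ pc P,
      (f : cen P → ℂ) y / (f : cen P → ℂ) 1 ≠ (tw L φ : cen P → ℂ) y / (tw L φ : cen P → ℂ) 1 := by
  haveI : Finite (Dual hs) := Nat.finite_of_card_ne_zero (by rw [card_dual hs]; omega)
  letI := Fintype.ofFinite (Dual hs)
  by_contra hall
  push Not at hall
  have h1 : (Finset.univ.filter fun L : Dual hs => ¬ Moving (tw L φ)).card ≤ 1 := by
    refine Finset.card_le_one.mpr fun L hL M hM => eq_of_tw_agree hs φ fun y hy => ?_
    have hL' := (Finset.mem_filter.mp hL).2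
    have hM' := (Finset.mem_filter.mp hM).2
    simp only [Moving, not_exists, not_and, ne_eq, not_not] at hL' hM'
    rw [hL' y hy, hM' y hy, div_self (apply_one_ne_zero _), div_self (apply_one_ne_zero _)]
  choose g hgS hg using hall
  have h2 : (Finset.univ.filter fun L : Dual hs => Moving (tw L φ)).card ≤ S.card := by
    refine Finset.card_le_card_of_injOn
      (fun L => if h : Moving (tw L φ) then g L h else φ) (fun L hL => ?_) (fun L hL M hM h => ?_)
    · have := (Finset.mem_filter.mp hL).2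
      simpa [dif_pos this] using hgS L this
    · have hL' := (Finset.mem_filter.mp hL).2
      have hM' := (Finset.mem_filter.mp hM).2
      simp only [dif_pos hL', dif_pos hM'] at h
      refine eq_of_tw_agree hs φ fun y hy => ?_
      rw [← hg L hL' y hy, ← hg M hM' y hy, h]
  have h3 := Finset.card_filter_add_card_filter_not
    (s := (Finset.univ : Finset (Dual hs))) (fun L => Moving (tw L φ))
  rw [Finset.card_univ, ← Nat.card_eq_fintype_card, card_dual hs] at h3
  omega

/-- The product of a character with the conjugate of another. -/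
def prodConj (χ X : G → ℂ) : G → ℂ := fun g => χ g * conj (X g)

theorem isCharacter_prodConj {χ X : G → ℂ} (hχ : Cfsg.IsCharacter G χ)
    (hX : Cfsg.IsCharacter G X) : Cfsg.IsCharacter G (prodConj χ X) :=
  isCharacter_mul hχ (isCharacter_conj hX)

theorem res_prodConj {χ X : G → ℂ} (hχ : Cfsg.IsCharacter G χ) (hX : Cfsg.IsCharacter G X) :
    (res (prodConj χ X) : cen P → ℂ) = fun c => ∑ f : Cfsg.IrrCharacter (cen P),
      ∑ g : Cfsg.IrrCharacter (cen P), ((mult (res χ) f : ℂ) * (mult (res X) g : ℂ)) *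
        ((f : cen P → ℂ) c * conj ((g : cen P → ℂ) c)) := by
  funext c
  have h1 := eq_sum (isCharacter_res (P := P) hχ) c
  have h2 := eq_sum (isCharacter_res (P := P) hX) c
  simp only [res, prodConj] at h1 h2 ⊢
  rw [h1, h2, map_sum, Finset.sum_mul_sum]
  refine Finset.sum_congr rfl fun f _ => Finset.sum_congr rfl fun g _ => ?_
  rw [map_mul, map_natCast]
  ring

theorem isCharacter_fg (f g : Cfsg.IrrCharacter (cen P)) :
    Cfsg.IsCharacter (cen P) (fun c => (f : cen P → ℂ) c * conj ((g : cen P → ℂ) c)) :=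
  isCharacter_mul (isCharacter_irr f) (isCharacter_conj (isCharacter_irr g))

theorem mult_prodConj {χ X : G → ℂ} (hχ : Cfsg.IsCharacter G χ) (hX : Cfsg.IsCharacter G X)
    (ψ : Cfsg.IrrCharacter (cen P)) :
    mult (res (prodConj χ X)) ψ = ∑ f : Cfsg.IrrCharacter (cen P), ∑ g : Cfsg.IrrCharacter (cen P),
      mult (res χ) f * mult (res X) g *
        mult (fun c => (f : cen P → ℂ) c * conj ((g : cen P → ℂ) c)) ψ := by
  apply Nat.cast_injective (R := ℂ)
  rw [← classInner_eq_mult (isCharacter_res (isCharacter_prodConj hχ hX)), res_prodConj hχ hX]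
  push_cast
  rw [Cfsg.classInner]
  simp only [← classInner_eq_mult (isCharacter_fg _ _), Cfsg.classInner, Finset.sum_mul,
    Finset.mul_sum]
  rw [Finset.sum_comm]
  refine Finset.sum_congr rfl fun f _ => ?_
  rw [Finset.sum_comm]
  exact Finset.sum_congr rfl fun g _ => Finset.sum_congr rfl fun c _ => by ring

theorem fixd_prodConj {χ X : G → ℂ} (hχ : Cfsg.IsCharacter G χ) (hX : Cfsg.IsCharacter G X) :
    fixd (res (prodConj χ X) : cen P → ℂ) = ∑ f : Cfsg.IrrCharacter (cen P),
      ∑ g : Cfsg.IrrCharacter (cen P), ((mult (res χ) f : ℂ) * (mult (res X) g : ℂ)) *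
        fixd (fun c => (f : cen P → ℂ) c * conj ((g : cen P → ℂ) c)) := by
  rw [res_prodConj hχ hX, fixd_sum]
  simp only [fixd_sum, fixd_mul_left]

/-- The fixed part of `χ χ̄` is at least the number of constituents of `χ` on `C`. -/
theorem card_le_fixd (hs : SameCen P) {χ : G → ℂ} (hχ : Cfsg.IsCharacter G χ) {F : ℕ}
    (hF : fixd (res (prodConj χ χ) : cen P → ℂ) = F) :
    (pres (res χ : cen P → ℂ)).card ≤ F := by
  choose k hk using fun fg : Cfsg.IrrCharacter (cen P) × Cfsg.IrrCharacter (cen P) =>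
    exists_fixd hs (isCharacter_fg fg.1 fg.2)
  have hk1 : ∀ f, 1 ≤ k (f, f) := by
    intro f
    have h := hk (f, f)
    rw [fixd_mul_conj_self hs] at h
    obtain ⟨d, hd0, hd⟩ := exists_degree_pos f
    simp only [hd] at h
    have : d * d = k (f, f) := by exact_mod_cast h
    rw [← this]
    exact Nat.one_le_iff_ne_zero.mpr (mul_ne_zero hd0.ne' hd0.ne')
  have h : F = ∑ f, ∑ g, mult (res χ : cen P → ℂ) f * mult (res χ : cen P → ℂ) g * k (f, g) := by
    apply Nat.cast_injective (R := ℂ)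
    rw [← hF, fixd_prodConj hχ hχ]
    push_cast
    exact Finset.sum_congr rfl fun f _ => Finset.sum_congr rfl fun g _ => by rw [hk (f, g)]
  rw [h]
  calc (pres (res χ : cen P → ℂ)).card = ∑ _f ∈ pres (res χ : cen P → ℂ), 1 := by simp
    _ ≤ ∑ f ∈ pres (res χ : cen P → ℂ),
        mult (res χ : cen P → ℂ) f * mult (res χ : cen P → ℂ) f * k (f, f) :=
      Finset.sum_le_sum fun f hf => Nat.one_le_iff_ne_zero.mpr (mul_ne_zero
        (mul_ne_zero (mem_pres.mp hf) (mem_pres.mp hf)) (Nat.one_le_iff_ne_zero.mp (hk1 f)))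
    _ ≤ ∑ f, mult (res χ : cen P → ℂ) f * mult (res χ : cen P → ℂ) f * k (f, f) :=
      Finset.sum_le_sum_of_subset (Finset.subset_univ _)
    _ ≤ _ := Finset.sum_le_sum fun f _ =>
      Finset.single_le_sum (f := fun g =>
        mult (res χ : cen P → ℂ) f * mult (res χ : cen P → ℂ) g * k (f, g))
        (fun _ _ => Nat.zero_le _) (Finset.mem_univ f)

variable [Fintype (Cfsg.IrrCharacter G)]

/-- The multiplicity of an irreducible character of `G`. -/
noncomputable def gmult (W : G → ℂ) (Z : Cfsg.IrrCharacter G) : ℕ :=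
  ⌊(Cfsg.classInner W (Z : G → ℂ)).re⌋₊

theorem classInner_eq_gmult {W : G → ℂ} (hW : Cfsg.IsCharacter G W) (Z : Cfsg.IrrCharacter G) :
    Cfsg.classInner W (Z : G → ℂ) = (gmult W Z : ℂ) := by
  obtain ⟨k, hk⟩ := exists_classInner_nat hW (isCharacter_irr Z)
  rw [gmult, hk, Complex.natCast_re, Nat.floor_natCast]

theorem g_eq_sum {W : G → ℂ} (hW : Cfsg.IsCharacter G W) (x : G) :
    W x = ∑ Z : Cfsg.IrrCharacter G, (gmult W Z : ℂ) * (Z : G → ℂ) x := by
  have h := Cfsg.Agent.Lib.Induced.Generalized.eq_sum_irr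
    (Cfsg.Agent.Lib.Induced.Generalized.of_isCharacter hW)
  conv_lhs => rw [h]
  rw [Finset.sum_apply]
  exact Finset.sum_congr rfl fun Z _ => by rw [classInner_eq_gmult hW, Pi.smul_apply, smul_eq_mul]

theorem mult_eq_sum {W : G → ℂ} (hW : Cfsg.IsCharacter G W) (ψ : Cfsg.IrrCharacter (cen P)) :
    mult (res W) ψ = ∑ Z : Cfsg.IrrCharacter G, gmult W Z * mult (res (Z : G → ℂ)) ψ := by
  apply Nat.cast_injective (R := ℂ)
  rw [← classInner_eq_mult (isCharacter_res hW)]
  push_cast
  simp only [← classInner_eq_mult (isCharacter_res (isCharacter_irr _)), Cfsg.classInner, res]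
  conv_lhs => enter [2, 2, c]; rw [g_eq_sum hW, Finset.sum_mul]
  rw [Finset.sum_comm, Finset.mul_sum]
  refine Finset.sum_congr rfl fun Z _ => ?_
  simp only [Finset.mul_sum]
  exact Finset.sum_congr rfl fun c _ => by ring

theorem fixd_res_le {W : G → ℂ} (hs : SameCen P) (hW : Cfsg.IsCharacter G W)
    (h0 : fixd (res W : cen P → ℂ) = 0) {Z : Cfsg.IrrCharacter G} (hZ : gmult W Z ≠ 0) :
    fixd (res (Z : G → ℂ) : cen P → ℂ) = 0 := by
  choose k hk using fun Z : Cfsg.IrrCharacter G =>
    exists_fixd hs (isCharacter_res (P := P) (isCharacter_irr Z))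
  have h : fixd (res W : cen P → ℂ) = ((∑ Z, gmult W Z * k Z : ℕ) : ℂ) := by
    rw [show (res W : cen P → ℂ) = fun c : cen P =>
      ∑ Z : Cfsg.IrrCharacter G, (gmult W Z : ℂ) * res (Z : G → ℂ) c from
      funext fun c => g_eq_sum hW (c : G), fixd_sum]
    push_cast
    exact Finset.sum_congr rfl fun Z _ => by rw [fixd_mul_left, hk Z]
  rw [h0] at h
  have h' : ∑ Z, gmult W Z * k Z = 0 := by exact_mod_cast h.symm
  have := (Finset.sum_eq_zero_iff.mp h') Z (Finset.mem_univ _)
  rw [hk Z, (mul_eq_zero.mp this).resolve_left hZ, Nat.cast_zero]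

theorem moving_subset_of_gmult {W : G → ℂ} (hW : Cfsg.IsCharacter G W) {Z : Cfsg.IrrCharacter G}
    (hZ : gmult W Z ≠ 0) :
    (pres (res (Z : G → ℂ) : cen P → ℂ)).filter Moving ⊆
      (pres (res W : cen P → ℂ)).filter Moving := by
  refine Finset.filter_subset_filter _ fun ψ hψ => ?_
  rw [mem_pres] at hψ ⊢
  rw [mult_eq_sum hW]
  exact fun h => mul_ne_zero hZ hψ ((Finset.sum_eq_zero_iff.mp h) Z (Finset.mem_univ _))

/-- The constituents of `χ χ̄` are all fixed or all moving on `C`. -/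
theorem all_or_none (hs : SameCen P) (χ : Cfsg.IrrCharacter G) {x : ℕ}
    (hx : (χ : G → ℂ) 1 = x) (hq : x ^ 2 + 1 < Nat.card (P : Subgroup G))
    {φ : Cfsg.IrrCharacter (cen P)} (hφ : φ ∈ pres (res (χ : G → ℂ))) (hm : Moving φ)
    {Ξ : Cfsg.IrrCharacter G} (hΞ : gmult (prodConj (χ : G → ℂ) (χ : G → ℂ)) Ξ ≠ 0)
    {φs : Cfsg.IrrCharacter (cen P)} (hφs : φs ∈ pres (res (Ξ : G → ℂ))) (hms : Moving φs)
    {f₀ : Cfsg.IrrCharacter (cen P)} (hf₀ : f₀ ∈ pres (res (Ξ : G → ℂ))) : Moving f₀ := by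
  by_contra hfix
  have hχ := isCharacter_irr χ
  have hW₀ := isCharacter_prodConj hχ hχ
  have hall : ∀ f ∈ pres (res (χ : G → ℂ) : cen P → ℂ), Moving f :=
    no_fixed hs χ hx (by omega) hφ hm
  have hfilt : (pres (res (χ : G → ℂ) : cen P → ℂ)).filter Moving =
      pres (res (χ : G → ℂ) : cen P → ℂ) := Finset.filter_true_of_mem hall
  have hxle := card_moving_le (P := P) hs hχ hx
  have hole : (orb φ).card ≤ x :=
    (Finset.card_le_card (orb_subset_moving hχ hφ hm)).trans hxle
  have hO : pres (res (χ : G → ℂ) : cen P → ℂ) = orb φ := by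
    rw [← hfilt]
    by_cases hsub : (pres (res (χ : G → ℂ) : cen P → ℂ)).filter Moving ⊆ orb φ
    · exact Finset.Subset.antisymm hsub (orb_subset_moving hχ hφ hm)
    · obtain ⟨ψ, hψ, hψo⟩ := Finset.not_subset.mp hsub
      have hd : Disjoint (orb φ) (orb ψ) := by
        rw [Finset.disjoint_left]
        exact fun a ha hb => hψo (orb_trans ha (orb_symm hb))
      have h2 := Finset.card_le_card (Finset.union_subset (orb_subset_moving hχ hφ hm)
        (orb_subset_moving hχ (Finset.mem_filter.mp hψ).1 (Finset.mem_filter.mp hψ).2))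
      rw [Finset.card_union_of_disjoint hd,
        card_orb_eq hs (Finset.mem_filter.mp hψ).2 hm] at h2
      have hepos : 0 < (orb φ).card := Finset.card_pos.mpr ⟨φ, mem_orb_self φ⟩
      refine single_orbit hs χ hφ hm ?_
      nlinarith
  -- the constituent `Ξ` has one moving orbit
  have hW1 : prodConj (χ : G → ℂ) (χ : G → ℂ) 1 = ((x * x : ℕ) : ℂ) := by
    simp [prodConj, hx]
  obtain ⟨F, hF⟩ := exists_fixd hs (isCharacter_res (P := P) hW₀)
  have hmv := card_add_fixd_le hs (isCharacter_res (P := P) hW₀)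
    (D := x * x) (by simpa [res] using hW1) hF
  have heF : (orb φ).card ≤ F := by rw [← hO]; exact card_le_fixd hs hχ hF
  have hΞle := Finset.card_le_card (moving_subset_of_gmult (P := P) hW₀ hΞ)
  have hΞO := single_orbit hs Ξ hφs hms (by rw [card_orb_eq hs hms hm]; nlinarith)
  -- a pair of constituents of `χ` producing `φs`
  obtain ⟨fa, fb, hfa, hfb, hab⟩ : ∃ fa fb, fa ∈ pres (res (χ : G → ℂ) : cen P → ℂ) ∧
      fb ∈ pres (res (χ : G → ℂ) : cen P → ℂ) ∧
      mult (fun c => (fa : cen P → ℂ) c * conj ((fb : cen P → ℂ) c)) φs ≠ 0 := by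
    have h := mem_pres.mp (Finset.mem_filter.mp ((moving_subset_of_gmult hW₀ hΞ)
      (Finset.mem_filter.mpr ⟨hφs, hms⟩))).1
    rw [mult_prodConj hχ hχ] at h
    obtain ⟨fa, -, hfa⟩ := Finset.exists_ne_zero_of_sum_ne_zero h
    obtain ⟨fb, -, hfb⟩ := Finset.exists_ne_zero_of_sum_ne_zero hfa
    exact ⟨fa, fb, mem_pres.mpr (left_ne_zero_of_mul (left_ne_zero_of_mul hfb)),
      mem_pres.mpr (right_ne_zero_of_mul (left_ne_zero_of_mul hfb)), right_ne_zero_of_mul hfb⟩
  obtain ⟨n, hn⟩ := mem_orb.mp (hO ▸ hfb)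
  -- the mate
  obtain ⟨L, hLm, hLav⟩ := exists_tw_avoid hs φ (orb φ) (by nlinarith)
  set φ' := tw L φ with hφ'def
  have hφ'o : φ' ∉ orb φ := fun h => by
    obtain ⟨y, -, hne⟩ := hLav _ h
    exact hne rfl
  have hφ'p : φ' ∉ pres (res (χ : G → ℂ)) := hO ▸ hφ'o
  obtain ⟨hone, X, -, -, hX⟩ := exists_mate hs χ L rfl hm hLm hφ'o hφ hφ'p
  have hXp : ∀ g : Cfsg.IrrCharacter (cen P),
      mult (res (X : G → ℂ)) g = if g ∈ orb φ' then 1 else 0 := by
    intro g
    apply Nat.cast_injective (R := ℂ)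
    rw [hX g]
    have hg : (mult (res (χ : G → ℂ)) g : ℂ) = if g ∈ orb φ then 1 else 0 := by
      by_cases h : g ∈ orb φ
      · obtain ⟨m, rfl⟩ := mem_orb.mp h
        rw [if_pos h, mult_rotI hχ, hone, Nat.cast_one]
      · rw [if_neg h]
        have : g ∉ pres (res (χ : G → ℂ)) := hO ▸ h
        rw [mem_pres, not_not] at this
        rw [this, Nat.cast_zero]
    rw [hg, sub_self, zero_add]
    split_ifs <;> simp
  have hW := isCharacter_prodConj hχ (isCharacter_irr X)
  have hW0 : fixd (res (prodConj (χ : G → ℂ) (X : G → ℂ)) : cen P → ℂ) = 0 := by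
    rw [fixd_prodConj hχ (isCharacter_irr X)]
    refine Finset.sum_eq_zero fun f _ => Finset.sum_eq_zero fun g _ => ?_
    by_cases hg : g ∈ orb φ'
    · by_cases hf : f ∈ orb φ
      · obtain ⟨m, rfl⟩ := mem_orb.mp hg
        obtain ⟨y₀, hy₀, hne⟩ := hLav (rotI m⁻¹ f)
          (orb_trans hf (mem_orb.mpr ⟨m⁻¹, rfl⟩))
        rw [fixd_mul_conj_eq_zero f (rotI m φ') (cj_mem_pc (n := m⁻¹) hy₀) ?_, mul_zero]
        have e1 : (rotI m φ' : cen P → ℂ) (cj m⁻¹ y₀) = (φ' : cen P → ℂ) y₀ := by
          simp only [coe_rotI, rot, ← cj_mul, mul_inv_cancel, cj_one]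
        have e2 : (rotI m φ' : cen P → ℂ) 1 = (φ' : cen P → ℂ) 1 := by
          simp only [coe_rotI, rot, map_one]
        rw [e1, e2]
        simpa only [coe_rotI, rot, map_one] using hne
      · have : f ∉ pres (res (χ : G → ℂ)) := hO ▸ hf
        rw [mem_pres, not_not] at this
        rw [this, Nat.cast_zero, zero_mul, zero_mul]
    · rw [hXp g, if_neg hg, Nat.cast_zero, mul_zero, zero_mul]
  -- the carrier of the twisted character
  let L' : Dual hs := ⟨L.1.comp (cj n).toMonoidHom, fun c => by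
    simp only [MonoidHom.comp_apply, MulEquiv.coe_toMonoidHom]
    rw [L.2 (cj n c), proj_cj]⟩
  let L'' : Dual hs := ⟨(L'.1)⁻¹, fun c => by
    simp only [MonoidHom.inv_apply]; rw [L'.2 c]⟩
  set Φ := tw L'' φs with hΦdef
  have hΦ : mult (res (prodConj (χ : G → ℂ) (X : G → ℂ))) Φ ≠ 0 := by
    rw [mult_prodConj hχ (isCharacter_irr X)]
    intro h
    have h1 := (Finset.sum_eq_zero_iff.mp ((Finset.sum_eq_zero_iff.mp h) fa (Finset.mem_univ _)))
      (rotI n φ') (Finset.mem_univ _)
    refine mul_ne_zero (mul_ne_zero (mem_pres.mp hfa) ?_) ?_ h1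
    · rw [hXp, if_pos (mem_orb.mpr ⟨n, rfl⟩)]; exact one_ne_zero
    · intro hz
      apply hab
      apply Nat.cast_injective (R := ℂ)
      rw [← classInner_eq_mult (isCharacter_fg _ _)]
      have hz' := classInner_eq_mult (isCharacter_fg fa (rotI n φ')) Φ
      rw [hz] at hz'
      rw [← hz', Cfsg.classInner, Cfsg.classInner]
      congr 1
      refine Finset.sum_congr rfl fun c _ => ?_
      simp only [hΦdef, tw_apply, L'', L', MonoidHom.inv_apply, MonoidHom.comp_apply,
        MulEquiv.coe_toMonoidHom, coe_rotI, rot, hφ'def, map_mul, ← hn]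
      have hu : conj ((L.1 (cj n c) : ℂˣ) : ℂ) * ((L.1 (cj n c) : ℂˣ) : ℂ) = 1 := by
        have h := apply_inv (isCharacter_dual L) (cj n c)
        rw [← h, ← Units.val_mul, ← map_mul, inv_mul_cancel, map_one, Units.val_one]
      have hu' : (((L.1 (cj n c))⁻¹ : ℂˣ) : ℂ) = conj ((L.1 (cj n c) : ℂˣ) : ℂ) := by
        rw [Units.val_inv_eq_inv_val]
        exact (eq_inv_of_mul_eq_one_left hu).symm
      rw [hu', Complex.conj_conj]
      linear_combination -((fa : cen P → ℂ) c * conj ((φ : cen P → ℂ) (cj n c)) *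
        conj ((φs : cen P → ℂ) c)) * hu
  obtain ⟨Z, hZW, hZΦ⟩ : ∃ Z : Cfsg.IrrCharacter G,
      gmult (prodConj (χ : G → ℂ) (X : G → ℂ)) Z ≠ 0 ∧ mult (res (Z : G → ℂ)) Φ ≠ 0 := by
    rw [mult_eq_sum hW] at hΦ
    obtain ⟨Z, -, hZ⟩ := Finset.exists_ne_zero_of_sum_ne_zero hΦ
    exact ⟨Z, left_ne_zero_of_mul hZ, right_ne_zero_of_mul hZ⟩
  have hZmov : ∀ g ∈ pres (res (Z : G → ℂ) : cen P → ℂ), Moving g := fun g hg =>
    moving_of_fixd_eq_zero hs (isCharacter_res (isCharacter_irr Z))
      (fixd_res_le hs hW hW0 hZW) hg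
  have hZΞ : Z ≠ Ξ := fun h => hfix (hZmov _ (h ▸ hf₀))
  have hconst : ∀ M : Dual hs, Moving (tw M φs) →
      mult (res (Z : G → ℂ)) (tw M φs) = mult (res (Z : G → ℂ)) φs := by
    intro M hM
    by_cases ho : tw M φs ∈ orb φs
    · obtain ⟨m, hm'⟩ := mem_orb.mp ho
      rw [← hm', mult_rotI (isCharacter_irr Z)]
    · have hp : tw M φs ∉ pres (res (Ξ : G → ℂ)) := fun h =>
        ho (hΞO ▸ Finset.mem_filter.mpr ⟨h, hM⟩)
      obtain ⟨-, B, -, hB, hBm⟩ := exists_mate hs Ξ M rfl hms hM ho hφs hp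
      have hBZ : B ≠ Z := by
        intro h
        refine hfix (hZmov f₀ (h ▸ mem_pres.mpr fun hz => mem_pres.mp hf₀ ?_))
        have := hBm f₀
        rw [if_neg fun e => hfix (moving_of_mem_orb hms e),
          if_neg fun e => hfix (moving_of_mem_orb hM e), sub_zero, add_zero, hz,
          Nat.cast_zero] at this
        exact_mod_cast this.symm
      have h1 := classInner_ind_res hs (sing_sub_tw hs φs M) (isClassFunction_irr Z)
      rw [hB, classInner_sub_left, classInner_irr, classInner_irr, if_neg (Ne.symm hZΞ),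
        if_neg hBZ, sub_zero, classInner_sub_left,
        ← classInner_conj_symm (res (Z : G → ℂ)) (φs : cen P → ℂ),
        ← classInner_conj_symm (res (Z : G → ℂ)) (tw M φs : cen P → ℂ),
        classInner_eq_mult (isCharacter_res (isCharacter_irr Z)),
        classInner_eq_mult (isCharacter_res (isCharacter_irr Z)), map_natCast, map_natCast] at h1
      exact (Nat.cast_injective (sub_eq_zero.mp h1.symm)).symm
  have hΦm : Moving Φ := hZmov _ (mem_pres.mpr hZΦ)
  have hne : mult (res (Z : G → ℂ)) φs ≠ 0 := hconst L'' hΦm ▸ hZΦ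
  have hZle : (pres (res (Z : G → ℂ) : cen P → ℂ)).card ≤ x * x := by
    have h1 : prodConj (χ : G → ℂ) (X : G → ℂ) 1 = ((x * x : ℕ) : ℂ) := by
      have hX1 : (X : G → ℂ) 1 = (χ : G → ℂ) 1 := by
        have h := eq_sum (isCharacter_res (P := P) (isCharacter_irr X)) 1
        have h' := eq_sum (isCharacter_res (P := P) hχ) 1
        simp only [res, Subgroup.coe_one] at h h'
        rw [h, h']
        simp only [show (fun c : cen P => (X : G → ℂ) c) = res (X : G → ℂ) from rfl,
          show (fun c : cen P => (χ : G → ℂ) c) = res (χ : G → ℂ) from rfl, hXp]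
        have hg : ∀ g : Cfsg.IrrCharacter (cen P),
            mult (res (χ : G → ℂ)) g = if g ∈ orb φ then 1 else 0 := by
          intro g
          by_cases hgo : g ∈ orb φ
          · obtain ⟨m, rfl⟩ := mem_orb.mp hgo
            rw [if_pos hgo, mult_rotI hχ, hone]
          · rw [if_neg hgo]
            have : g ∉ pres (res (χ : G → ℂ)) := hO ▸ hgo
            rwa [mem_pres, not_not] at this
        simp only [hg, Nat.cast_ite, Nat.cast_one, Nat.cast_zero, ite_mul, one_mul, zero_mul,
          ← Finset.sum_filter, Finset.filter_mem_eq_inter, Finset.univ_inter]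
        have hd : ∀ {α : Cfsg.IrrCharacter (cen P)} (g : Cfsg.IrrCharacter (cen P)),
            g ∈ orb α → (g : cen P → ℂ) 1 = (α : cen P → ℂ) 1 := fun g hg => by
          obtain ⟨m, rfl⟩ := mem_orb.mp hg
          simp [coe_rotI, rot]
        rw [Finset.sum_congr rfl fun g hg => hd g hg, Finset.sum_congr rfl fun g hg => hd g hg,
          Finset.sum_const, Finset.sum_const, card_orb_eq hs hLm hm, hφ'def, tw_apply]
        simp
      simp [prodConj, hX1, hx]
    obtain ⟨F', hF'⟩ := exists_fixd hs (isCharacter_res (P := P) hW)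
    have := card_add_fixd_le hs (isCharacter_res (P := P) hW) (D := x * x)
      (by simpa [res] using h1) hF'
    have h2 := Finset.card_le_card (moving_subset_of_gmult (P := P) hW hZW)
    rw [Finset.filter_true_of_mem hZmov] at h2
    omega
  obtain ⟨M, hM, hMn⟩ := exists_tw_moving hs φs (pres (res (Z : G → ℂ))) (by nlinarith)
  exact hMn (mem_pres.mpr (hconst M hM ▸ hne))

/-- The sum over `P`. -/
theorem fixd_res (hs : SameCen P) (f : G → ℂ) [Fintype (P : Subgroup G)] :
    fixd (res f : cen P → ℂ) =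
      (Nat.card (P : Subgroup G) : ℂ)⁻¹ * ∑ y : (P : Subgroup G), f y := by
  unfold fixd
  congr 1
  exact Fintype.sum_equiv (Subgroup.subgroupOfEquivOfLe (le_cen hs)).toEquiv _ _ fun y => rfl

/-- The averages over `K` and over `P` of a constituent of `χ χ̄` agree. -/
theorem avg_K_eq (hs : SameCen P) (χ : Cfsg.IrrCharacter G) {x : ℕ}
    (hx : (χ : G → ℂ) 1 = x) (hq : x ^ 2 + 1 < Nat.card (P : Subgroup G))
    {φ : Cfsg.IrrCharacter (cen P)} (hφ : φ ∈ pres (res (χ : G → ℂ))) (hm : Moving φ)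
    (K : Subgroup G) [Fintype K] (hPK : (P : Subgroup G) ≤ K)
    (hmin : ∀ N : Subgroup G, N.Normal → (P : Subgroup G) ≤ N → K ≤ N)
    {Ξ : Cfsg.IrrCharacter G} (hΞ : gmult (prodConj (χ : G → ℂ) (χ : G → ℂ)) Ξ ≠ 0) :
    (Nat.card K : ℂ)⁻¹ * ∑ k : K, (Ξ : G → ℂ) k = fixd (res (Ξ : G → ℂ) : cen P → ℂ) := by
  have hθ := isCharacter_res (P := P) (isCharacter_irr Ξ)
  by_cases hex : ∃ φs ∈ pres (res (Ξ : G → ℂ) : cen P → ℂ), Moving φs
  · obtain ⟨φs, hφs, hms⟩ := hex
    have h0 := fixd_eq_zero hs hθ fun f hf => all_or_none hs χ hx hq hφ hm hΞ hφs hms hf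
    rw [h0]
    letI := Fintype.ofFinite (Cfsg.IrrCharacter K)
    letI := Fintype.ofFinite (P : Subgroup G)
    have hres : Cfsg.IsCharacter K (fun k : K => (Ξ : G → ℂ) k) :=
      isCharacter_comp K.subtype (isCharacter_irr Ξ)
    choose c hc using fun η : Cfsg.IrrCharacter K => exists_classInner_nat hres (isCharacter_irr η)
    have hdec : ∀ k : K, (Ξ : G → ℂ) k = ∑ η : Cfsg.IrrCharacter K, (c η : ℂ) * (η : K → ℂ) k := by
      intro k
      have h := congrFun (Cfsg.Agent.Lib.Induced.Generalized.eq_sum_irr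
        (Cfsg.Agent.Lib.Induced.Generalized.of_isCharacter hres)) k
      simp only [Finset.sum_apply, Pi.smul_apply, smul_eq_mul, hc] at h
      exact h
    let ι : (P : Subgroup G) →* K := Subgroup.inclusion hPK
    choose b hb using fun η : Cfsg.IrrCharacter K =>
      exists_classInner_nat (isCharacter_comp ι (isCharacter_irr η))
        (isCharacter_one (G := (P : Subgroup G)))
    have hsum : ((∑ η, c η * b η : ℕ) : ℂ) = 0 := by
      have hb' : ∀ η : Cfsg.IrrCharacter K, (b η : ℂ) =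
          (Nat.card (P : Subgroup G) : ℂ)⁻¹ * ∑ y : (P : Subgroup G), (η : K → ℂ) (ι y) := by
        intro η
        rw [← hb η, Cfsg.classInner]
        simp
      rw [← h0, fixd_res hs, Nat.cast_sum]
      simp only [Nat.cast_mul, hb', mul_left_comm (c _ : ℂ), ← Finset.mul_sum]
      congr 1
      simp only [Finset.mul_sum]
      rw [Finset.sum_comm]
      exact Finset.sum_congr rfl fun y _ => (hdec (ι y)).symm
    have hb1 : b (oneChar K) = 1 := by
      have h := hb (oneChar K)
      simp only [Cfsg.classInner, Pi.one_apply, map_one, mul_one, Function.comp_apply,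
        oneChar_apply, Finset.sum_const, Finset.card_univ, nsmul_eq_mul,
        ← Nat.card_eq_fintype_card, inv_mul_cancel₀ (subgroup_card_ne_zero (P : Subgroup G))] at h
      exact_mod_cast h.symm
    have hc1 : c (oneChar K) = 0 := by
      have := (Finset.sum_eq_zero_iff.mp (show ∑ η, c η * b η = 0 by exact_mod_cast hsum))
        (oneChar K) (Finset.mem_univ _)
      rwa [hb1, mul_one] at this
    have := hc (oneChar K)
    rw [hc1, Nat.cast_zero, Cfsg.classInner] at this
    simpa [oneChar_apply] using this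
  · push Not at hex
    have hker : (P : Subgroup G) ≤ charKer (isCharacter_irr Ξ) := by
      intro y hy
      rw [mem_charKer]
      have h1 := eq_sum hθ ⟨y, le_cen hs hy⟩
      have h2 := eq_sum hθ 1
      simp only [res, Subgroup.coe_one] at h1 h2
      rw [h1, h2]
      refine Finset.sum_congr rfl fun f _ => ?_
      by_cases hf : f ∈ pres (res (Ξ : G → ℂ))
      · have hnm := hex f hf
        simp only [Moving, not_exists, not_and, ne_eq, not_not] at hnm
        rw [hnm ⟨y, le_cen hs hy⟩ (Subgroup.mem_subgroupOf.mpr hy)]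
      · rw [mem_pres, not_not] at hf
        simp only [show (fun c : cen P => (Ξ : G → ℂ) c) = res (Ξ : G → ℂ) from rfl, hf,
          Nat.cast_zero, zero_mul]
    have hK := hmin _ (charKer_normal (isCharacter_irr Ξ)) hker
    rw [fixd_of_forall (θ := res (Ξ : G → ℂ)) hs (d := (Ξ : G → ℂ) 1) fun y hy =>
      (mem_charKer (isCharacter_irr Ξ) _).mp (hker (Subgroup.mem_subgroupOf.mp hy))]
    rw [Finset.sum_congr rfl fun (k : K) _ => (mem_charKer (isCharacter_irr Ξ) (k : G)).mp (hK k.2),
      Finset.sum_const, Finset.card_univ, ← Nat.card_eq_fintype_card, nsmul_eq_mul, ← mul_assoc,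
      inv_mul_cancel₀ (subgroup_card_ne_zero _), one_mul]

/-- An irreducible character of small degree is trivial on the commutators of the normal closure
of `P`, and `[N(P) : C(P)]` is at most its degree when it is nontrivial on `P`. -/
theorem commutator_trivial (hs : SameCen P) (χ : Cfsg.IrrCharacter G) {x : ℕ}
    (hx : (χ : G → ℂ) 1 = x) (hq : x ^ 2 + 1 < Nat.card (P : Subgroup G))
    (K : Subgroup G) [Fintype K] (hPK : (P : Subgroup G) ≤ K)
    (hmin : ∀ N : Subgroup G, N.Normal → (P : Subgroup G) ≤ N → K ≤ N) :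
    ((P : Subgroup G) ≤ charKer (isCharacter_irr χ) ∨
      Nat.card (nor P) ≤ x * Nat.card (cen P)) ∧
    ∀ a ∈ K, ∀ b ∈ K, (χ : G → ℂ) ⁅a, b⁆ = (χ : G → ℂ) 1 := by
  have hχ := isCharacter_irr χ
  have hθ := isCharacter_res (P := P) hχ
  by_cases hex : ∃ φ ∈ pres (res (χ : G → ℂ) : cen P → ℂ), Moving φ
  swap
  · push Not at hex
    have hker : (P : Subgroup G) ≤ charKer hχ := by
      intro y hy
      rw [mem_charKer]
      have h1 := eq_sum hθ ⟨y, le_cen hs hy⟩
      have h2 := eq_sum hθ 1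
      simp only [res, Subgroup.coe_one] at h1 h2
      rw [h1, h2]
      refine Finset.sum_congr rfl fun f _ => ?_
      by_cases hf : f ∈ pres (res (χ : G → ℂ))
      · have hnm := hex f hf
        simp only [Moving, not_exists, not_and, ne_eq, not_not] at hnm
        rw [hnm ⟨y, le_cen hs hy⟩ (Subgroup.mem_subgroupOf.mpr hy)]
      · rw [mem_pres, not_not] at hf
        simp only [show (fun c : cen P => (χ : G → ℂ) c) = res (χ : G → ℂ) from rfl, hf,
          Nat.cast_zero, zero_mul]
    refine ⟨Or.inl hker, fun a ha b hb => ?_⟩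
    have hK := hmin _ (charKer_normal hχ) hker
    exact (mem_charKer hχ _).mp (hK (by
      rw [commutatorElement_def]
      exact mul_mem (mul_mem (mul_mem ha hb) (inv_mem ha)) (inv_mem hb)))
  obtain ⟨φ, hφ, hm⟩ := hex
  refine ⟨Or.inr ?_, ?_⟩
  · rw [← card_orb hs hm]
    exact Nat.mul_le_mul_right _ ((Finset.card_le_card (orb_subset_moving hχ hφ hm)).trans
      (card_moving_le hs hχ hx))
  letI := Fintype.ofFinite (Cfsg.IrrCharacter K)
  letI := Fintype.ofFinite (P : Subgroup G)
  have hW := isCharacter_prodConj hχ hχ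
  have havg : (Nat.card K : ℂ)⁻¹ * ∑ k : K, prodConj (χ : G → ℂ) (χ : G → ℂ) k =
      (Nat.card (P : Subgroup G) : ℂ)⁻¹ *
        ∑ y : (P : Subgroup G), prodConj (χ : G → ℂ) (χ : G → ℂ) y := by
    simp only [g_eq_sum hW]
    rw [Finset.sum_comm, Finset.sum_comm (s := (Finset.univ : Finset (P : Subgroup G))),
      Finset.mul_sum, Finset.mul_sum]
    refine Finset.sum_congr rfl fun Ξ _ => ?_
    rw [← Finset.mul_sum, ← Finset.mul_sum, mul_left_comm, mul_left_comm (_)⁻¹]
    by_cases hΞ : gmult (prodConj (χ : G → ℂ) (χ : G → ℂ)) Ξ = 0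
    · rw [hΞ, Nat.cast_zero, zero_mul, zero_mul]
    · rw [avg_K_eq hs χ hx hq hφ hm K hPK hmin hΞ, fixd_res hs]
  have hres : Cfsg.IsCharacter K (fun k : K => (χ : G → ℂ) k) :=
    isCharacter_comp K.subtype hχ
  choose c hc using fun η : Cfsg.IrrCharacter K => exists_classInner_nat hres (isCharacter_irr η)
  have hdec : ∀ k : K, (χ : G → ℂ) k = ∑ η : Cfsg.IrrCharacter K, (c η : ℂ) * (η : K → ℂ) k := by
    intro k
    have h := congrFun (Cfsg.Agent.Lib.Induced.Generalized.eq_sum_irr
      (Cfsg.Agent.Lib.Induced.Generalized.of_isCharacter hres)) k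
    simp only [Finset.sum_apply, Pi.smul_apply, smul_eq_mul, hc] at h
    exact h
  let ι : (P : Subgroup G) →* K := Subgroup.inclusion hPK
  choose N hN using fun η η' : Cfsg.IrrCharacter K =>
    exists_classInner_nat (isCharacter_comp ι (isCharacter_irr η))
      (isCharacter_comp ι (isCharacter_irr η'))
  have hK2 : (Nat.card K : ℂ)⁻¹ * ∑ k : K, prodConj (χ : G → ℂ) (χ : G → ℂ) k =
      ((∑ η, c η * c η : ℕ) : ℂ) := by
    have : Cfsg.classInner (fun k : K => (χ : G → ℂ) k) (fun k : K => (χ : G → ℂ) k) =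
        ((∑ η, c η * c η : ℕ) : ℂ) := by
      rw [Cfsg.Agent.Lib.Induced.Generalized.classInner_eq_sum
        (Cfsg.Agent.Lib.Induced.Generalized.of_isCharacter hres)]
      push_cast
      exact Finset.sum_congr rfl fun η _ => by rw [hc, map_natCast]
    exact this
  have hP2 : (Nat.card (P : Subgroup G) : ℂ)⁻¹ *
      ∑ y : (P : Subgroup G), prodConj (χ : G → ℂ) (χ : G → ℂ) y =
      ((∑ η, ∑ η', c η * c η' * N η η' : ℕ) : ℂ) := by
    push_cast
    simp only [← hN, Cfsg.classInner, prodConj, Function.comp_apply]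
    rw [Finset.mul_sum]
    simp only [Finset.mul_sum]
    conv_rhs => enter [2, η]; rw [Finset.sum_comm]
    conv_rhs => rw [Finset.sum_comm]
    refine Finset.sum_congr rfl fun y _ => ?_
    rw [show (y : G) = ((ι y : K) : G) from rfl, hdec, map_sum, Finset.sum_mul_sum, Finset.mul_sum]
    refine Finset.sum_congr rfl fun η _ => ?_
    rw [Finset.mul_sum]
    refine Finset.sum_congr rfl fun η' _ => ?_
    rw [map_mul, map_natCast]
    ring
  have heq : ∑ η, c η * c η = ∑ η, ∑ η', c η * c η' * N η η' := by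
    rw [hK2, hP2] at havg
    exact_mod_cast havg
  have hNpos : ∀ η, 1 ≤ N η η := by
    intro η
    rw [Nat.one_le_iff_ne_zero]
    intro h0
    have h := hN η η
    rw [h0, Nat.cast_zero] at h
    have := congrFun (Cfsg.Agent.Lib.Isometry.Inner.eq_zero_of_classInner_self h) 1
    simp only [Function.comp_apply, map_one, Pi.zero_apply] at this
    exact apply_one_ne_zero η this
  have hlin : ∀ η, c η ≠ 0 → (η : K → ℂ) 1 = 1 := by
    intro η hη
    have hle : ∀ η, c η * c η ≤ ∑ η', c η * c η' * N η η' := fun η =>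
      (Nat.le_mul_of_pos_right _ (hNpos η)).trans
        (Finset.single_le_sum (f := fun η' => c η * c η' * N η η') (fun _ _ => Nat.zero_le _)
          (Finset.mem_univ η))
    have h1 := (Finset.sum_eq_sum_iff_of_le fun η _ => hle η).mp heq η (Finset.mem_univ _)
    have h2 : c η * c η * N η η ≤ c η * c η :=
      (Finset.single_le_sum (f := fun η' => c η * c η' * N η η') (fun _ _ => Nat.zero_le _)
        (Finset.mem_univ η)).trans_eq h1.symm
    have h3 : N η η = 1 := le_antisymm
      (Nat.le_of_mul_le_mul_left (h2.trans_eq (mul_one _).symm)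
        (Nat.pos_of_ne_zero (mul_ne_zero hη hη))) (hNpos η)
    have h4 := hN η η
    rw [h3, Nat.cast_one] at h4
    have := degree_eq_one_of_comm (fun a b : (P : Subgroup G) => Subtype.ext (comm_P hs a.2 b.2))
      ⟨_, isIrrCharacter_of_classInner_self (isCharacter_comp ι (isCharacter_irr η)) h4⟩
    simpa using this
  intro a ha b hb
  have e1 := hdec ⁅(⟨a, ha⟩ : K), ⟨b, hb⟩⁆
  have e2 := hdec 1
  have hcoe : ((⁅(⟨a, ha⟩ : K), ⟨b, hb⟩⁆ : K) : G) = ⁅a, b⁆ := by
    simp [commutatorElement_def]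
  rw [hcoe] at e1
  rw [Subgroup.coe_one] at e2
  rw [e1, e2]
  refine Finset.sum_congr rfl fun η _ => ?_
  by_cases hη : c η = 0
  · rw [hη, Nat.cast_zero, zero_mul, zero_mul]
  · rw [Cfsg.Agent.Lib.Chars82.PGroupChars.linear_commutator (isCharacter_irr η) (hlin η hη)
      (Subgroup.commutator_mem_commutator (Subgroup.mem_top _) (Subgroup.mem_top _)), hlin η hη]

end Cfsg.Agent.Lib.SmallDegreeTI.Main
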