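import Cfsg.Agent.Lib.SmallDegreeTI.Induce

/-!
# Constituents on `C(P)` and the fixed part on `P`
-/

namespace Cfsg.Agent.Lib.SmallDegreeTI.Coeff

open scoped ComplexConjugate
open scoped Classical
open Cfsg.Agent.Lib.SmallDegreeTI.Setup Cfsg.Agent.Lib.SmallDegreeTI.Induce
open Cfsg.Agent.Lib.Induced.Basic Cfsg.Agent.Lib.Characters.Basic

universe u

set_option linter.unusedSectionVars false

variable {G : Type u} [Group G] [Fintype G] {p : ℕ} [Fact p.Prime] {P : Sylow p G}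
variable [Fintype (cen P)] [Fintype (nor P)]

/-- The multiplicity of an irreducible character in a character, as a natural number. -/
noncomputable def mult (θ : cen P → ℂ) (φ : Cfsg.IrrCharacter (cen P)) : ℕ :=
  ⌊(Cfsg.classInner θ (φ : cen P → ℂ)).re⌋₊

theorem classInner_eq_mult {θ : cen P → ℂ} (hθ : Cfsg.IsCharacter (cen P) θ)
    (φ : Cfsg.IrrCharacter (cen P)) :
    Cfsg.classInner θ (φ : cen P → ℂ) = (mult θ φ : ℂ) := by
  obtain ⟨k, hk⟩ := exists_classInner_nat hθ (isCharacter_irr φ)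
  rw [mult, hk, Complex.natCast_re, Nat.floor_natCast]

variable [Fintype (Cfsg.IrrCharacter (cen P))]

/-- The constituents of a character. -/
noncomputable def pres (θ : cen P → ℂ) : Finset (Cfsg.IrrCharacter (cen P)) :=
  Finset.univ.filter fun φ => mult θ φ ≠ 0

theorem mem_pres {θ : cen P → ℂ} {φ : Cfsg.IrrCharacter (cen P)} :
    φ ∈ pres θ ↔ mult θ φ ≠ 0 := by
  simp [pres]

theorem eq_sum {θ : cen P → ℂ} (hθ : Cfsg.IsCharacter (cen P) θ) (c : cen P) :
    θ c = ∑ φ : Cfsg.IrrCharacter (cen P), (mult θ φ : ℂ) * (φ : cen P → ℂ) c := by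
  have h := Cfsg.Agent.Lib.Induced.Generalized.eq_sum_irr
    (Cfsg.Agent.Lib.Induced.Generalized.of_isCharacter hθ)
  conv_lhs => rw [h]
  rw [Finset.sum_apply]
  exact Finset.sum_congr rfl fun φ _ => by rw [classInner_eq_mult hθ, Pi.smul_apply, smul_eq_mul]

theorem norm_sq_ge {θ : cen P → ℂ} (hθ : Cfsg.IsCharacter (cen P) θ)
    (s : Finset (Cfsg.IrrCharacter (cen P))) (hs : s ⊆ pres θ) :
    (s.card : ℝ) ≤ (Cfsg.classInner θ θ).re := by
  rw [Cfsg.Agent.Lib.Induced.Generalized.classInner_eq_sum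
    (Cfsg.Agent.Lib.Induced.Generalized.of_isCharacter hθ), Complex.re_sum]
  have hterm : ∀ φ : Cfsg.IrrCharacter (cen P),
      (Cfsg.classInner θ φ * conj (Cfsg.classInner θ φ)).re = (mult θ φ : ℝ) * mult θ φ := by
    intro φ
    rw [classInner_eq_mult hθ, map_natCast, ← Nat.cast_mul, Complex.natCast_re, Nat.cast_mul]
  simp only [hterm]
  calc (s.card : ℝ) = ∑ _φ ∈ s, (1 : ℝ) := by simp
    _ ≤ ∑ φ ∈ s, (mult θ φ : ℝ) * mult θ φ := Finset.sum_le_sum fun φ hφ => by
        have : 1 ≤ mult θ φ := Nat.one_le_iff_ne_zero.mpr (mem_pres.mp (hs hφ))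
        exact_mod_cast Nat.le_trans this (Nat.le_mul_self _)
    _ ≤ _ := Finset.sum_le_univ_sum_of_nonneg fun φ => by positivity

/-- The average over `P`. -/
noncomputable def fixd (θ : cen P → ℂ) : ℂ :=
  (Nat.card (P : Subgroup G) : ℂ)⁻¹ * ∑ y : pc P, θ y

theorem exists_fixd (hs : SameCen P) {θ : cen P → ℂ} (hθ : Cfsg.IsCharacter (cen P) θ) :
    ∃ k : ℕ, fixd θ = k := by
  obtain ⟨k, hk⟩ := exists_classInner_nat (isCharacter_comp (pc P).subtype hθ)
    (isCharacter_one (G := pc P))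
  refine ⟨k, ?_⟩
  rw [← hk, Cfsg.classInner, fixd, card_pc hs]
  simp

theorem fixd_sum {ι : Type*} (s : Finset ι) (f : ι → cen P → ℂ) :
    fixd (fun c => ∑ i ∈ s, f i c) = ∑ i ∈ s, fixd (f i) := by
  simp only [fixd, ← Finset.mul_sum]
  congr 1
  exact Finset.sum_comm

theorem fixd_mul_left (a : ℂ) (f : cen P → ℂ) : fixd (fun c => a * f c) = a * fixd f := by
  simp only [fixd, ← Finset.mul_sum]
  ring

theorem fixd_of_forall (hs : SameCen P) {θ : cen P → ℂ} {d : ℂ} (h : ∀ y ∈ pc P, θ y = d) :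
    fixd θ = d := by
  rw [fixd, Finset.sum_congr rfl (fun (y : pc P) _ => h y y.2), Finset.sum_const, Finset.card_univ,
    ← Nat.card_eq_fintype_card, card_pc hs, nsmul_eq_mul, ← mul_assoc,
    inv_mul_cancel₀ (subgroup_card_ne_zero _), one_mul]

theorem fixd_eq_zero_of_shift {θ : cen P → ℂ} {y₀ : cen P} (hy₀ : y₀ ∈ pc P) {r : ℂ} (hr : r ≠ 1)
    (h : ∀ y ∈ pc P, θ (y₀ * y) = r * θ y) : fixd θ = 0 := by
  have hsum : ∑ y : pc P, θ y = r * ∑ y : pc P, θ y := by
    rw [Finset.mul_sum]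
    exact Fintype.sum_equiv (Equiv.mulLeft (⟨y₀, hy₀⟩ : pc P)⁻¹) _ _ fun y => by
      simp only [Equiv.coe_mulLeft]
      rw [← h _ (SetLike.coe_mem _)]
      simp
  have : (r - 1) * ∑ y : pc P, θ y = 0 := by rw [sub_mul, one_mul, ← hsum, sub_self]
  rw [fixd, (mul_eq_zero.mp this).resolve_left (sub_ne_zero.mpr hr), mul_zero]

theorem fixd_irr (hs : SameCen P) (φ : Cfsg.IrrCharacter (cen P)) :
    fixd (φ : cen P → ℂ) = if Moving φ then 0 else (φ : cen P → ℂ) 1 := by
  split_ifs with h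
  · obtain ⟨y₀, hy₀, hne⟩ := h
    refine fixd_eq_zero_of_shift hy₀ (r := (φ : cen P → ℂ) y₀ / (φ : cen P → ℂ) 1) ?_
      fun y _ => apply_mul_pc φ hy₀ y
    rwa [Ne, div_eq_one_iff_eq (apply_one_ne_zero φ)]
  · simp only [Moving, not_exists, not_and, ne_eq, not_not] at h
    exact fixd_of_forall hs h

/-- The moving constituents and the fixed part fit into the degree. -/
theorem card_add_fixd_le (hs : SameCen P) {θ : cen P → ℂ} (hθ : Cfsg.IsCharacter (cen P) θ)
    {D F : ℕ} (hD : θ 1 = D) (hF : fixd θ = F) :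
    ((pres θ).filter Moving).card + F ≤ D := by
  choose d hd0 hd using fun φ : Cfsg.IrrCharacter (cen P) => exists_degree_pos φ
  have h1 : D = ∑ φ, mult θ φ * d φ := by
    have := eq_sum hθ 1
    simp only [hD, hd] at this
    exact_mod_cast this
  have h2 : F = ∑ φ, if Moving φ then 0 else mult θ φ * d φ := by
    have h : θ = fun c => ∑ φ, (mult θ φ : ℂ) * (φ : cen P → ℂ) c := funext (eq_sum hθ)
    have := congrArg fixd h
    rw [hF, fixd_sum] at this
    simp only [fixd_mul_left, fixd_irr hs, hd, mul_ite, mul_zero] at this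
    have h' : ((F : ℕ) : ℂ) = ((∑ φ, if Moving φ then 0 else mult θ φ * d φ : ℕ) : ℂ) := by
      rw [this, Nat.cast_sum]
      exact Finset.sum_congr rfl fun φ _ => by split_ifs <;> simp
    exact_mod_cast h'
  have h3 : ((pres θ).filter Moving).card ≤ ∑ φ, if Moving φ then mult θ φ * d φ else 0 := by
    rw [← Finset.sum_filter]
    calc ((pres θ).filter Moving).card = ∑ _φ ∈ (pres θ).filter Moving, 1 := by simp
      _ ≤ ∑ φ ∈ (pres θ).filter Moving, mult θ φ * d φ := Finset.sum_le_sum fun φ hφ =>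
          Nat.one_le_iff_ne_zero.mpr (mul_ne_zero (mem_pres.mp (Finset.mem_filter.mp hφ).1)
            (hd0 φ).ne')
      _ ≤ _ := Finset.sum_le_sum_of_subset (Finset.filter_subset_filter _ (Finset.subset_univ _))
  have h4 : D = (∑ φ, if Moving φ then mult θ φ * d φ else 0) + F := by
    rw [h1, h2, ← Finset.sum_add_distrib]
    exact Finset.sum_congr rfl fun φ _ => by split_ifs <;> simp
  omega

theorem moving_of_fixd_eq_zero (hs : SameCen P) {θ : cen P → ℂ} (hθ : Cfsg.IsCharacter (cen P) θ)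
    (h0 : fixd θ = 0) {φ : Cfsg.IrrCharacter (cen P)} (hφ : φ ∈ pres θ) : Moving φ := by
  by_contra hm
  choose d hd0 hd using fun φ : Cfsg.IrrCharacter (cen P) => exists_degree_pos φ
  have h : θ = fun c => ∑ φ, (mult θ φ : ℂ) * (φ : cen P → ℂ) c := funext (eq_sum hθ)
  have := congrArg fixd h
  rw [h0, fixd_sum] at this
  simp only [fixd_mul_left, fixd_irr hs, hd, mul_ite, mul_zero] at this
  have h' : ((0 : ℕ) : ℂ) = ((∑ φ, if Moving φ then 0 else mult θ φ * d φ : ℕ) : ℂ) := by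
    rw [Nat.cast_zero, this, Nat.cast_sum]
    exact Finset.sum_congr rfl fun φ _ => by split_ifs <;> simp
  have h'' := (Finset.sum_eq_zero_iff.mp (Nat.cast_injective h').symm) φ (Finset.mem_univ _)
  rw [if_neg hm] at h''
  exact mul_ne_zero (mem_pres.mp hφ) (hd0 φ).ne' h''

/-- With all constituents moving the fixed part is zero. -/
theorem fixd_eq_zero (hs : SameCen P) {θ : cen P → ℂ} (hθ : Cfsg.IsCharacter (cen P) θ)
    (h : ∀ φ ∈ pres θ, Moving φ) : fixd θ = 0 := by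
  rw [show θ = fun c => ∑ φ, (mult θ φ : ℂ) * (φ : cen P → ℂ) c from funext (eq_sum hθ), fixd_sum]
  refine Finset.sum_eq_zero fun φ _ => ?_
  rw [fixd_mul_left, fixd_irr hs]
  by_cases hm : mult θ φ = 0
  · rw [hm, Nat.cast_zero, zero_mul]
  · rw [if_pos (h φ (mem_pres.mpr hm)), mul_zero]

/-- Products of two irreducible characters with different scalars on `P` have no fixed part. -/
theorem fixd_mul_conj_eq_zero (f g : Cfsg.IrrCharacter (cen P)) {y₀ : cen P} (hy₀ : y₀ ∈ pc P)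
    (hne : (f : cen P → ℂ) y₀ / (f : cen P → ℂ) 1 ≠ (g : cen P → ℂ) y₀ / (g : cen P → ℂ) 1) :
    fixd (fun c => (f : cen P → ℂ) c * conj ((g : cen P → ℂ) c)) = 0 := by
  refine fixd_eq_zero_of_shift hy₀
    (r := (f : cen P → ℂ) y₀ / (f : cen P → ℂ) 1 *
      conj ((g : cen P → ℂ) y₀ / (g : cen P → ℂ) 1)) ?_ fun y _ => ?_
  · intro h
    apply hne
    have hg : (g : cen P → ℂ) y₀ / (g : cen P → ℂ) 1 *
        ((g : cen P → ℂ) y₀⁻¹ / (g : cen P → ℂ) 1) = 1 := by
      have := apply_mul_pc g hy₀ y₀⁻¹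
      rw [mul_inv_cancel] at this
      rw [mul_div_assoc', ← this, div_self (apply_one_ne_zero g)]
    rw [map_div₀, conj_apply_one (isCharacter_irr g), ← apply_inv (isCharacter_irr g)] at h
    calc (f : cen P → ℂ) y₀ / (f : cen P → ℂ) 1
        = (f : cen P → ℂ) y₀ / (f : cen P → ℂ) 1 * ((g : cen P → ℂ) y₀⁻¹ / (g : cen P → ℂ) 1) *
            ((g : cen P → ℂ) y₀ / (g : cen P → ℂ) 1) := by
          rw [mul_assoc, mul_comm ((g : cen P → ℂ) y₀⁻¹ / _), hg, mul_one]
      _ = _ := by rw [h, one_mul]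
  · rw [apply_mul_pc f hy₀, apply_mul_pc g hy₀, map_mul]
    ring

theorem fixd_mul_conj_self (hs : SameCen P) (f : Cfsg.IrrCharacter (cen P)) :
    fixd (fun c => (f : cen P → ℂ) c * conj ((f : cen P → ℂ) c)) =
      (f : cen P → ℂ) 1 * (f : cen P → ℂ) 1 := by
  refine fixd_of_forall hs fun y hy => ?_
  have h1 := apply_mul_pc f hy y⁻¹
  rw [mul_inv_cancel] at h1
  rw [← apply_inv (isCharacter_irr f)]
  have hne := apply_one_ne_zero f
  field_simp at h1
  rw [← h1]
  ring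

end Cfsg.Agent.Lib.SmallDegreeTI.Coeff
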