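import Cfsg.Agent.Lib.SmallDegreeTI.Setup
import Cfsg.Agent.Lib.Induced.Character
import Cfsg.Agent.Lib.Induced.Generalized

/-!
# Induction from `C(P)` of class functions vanishing where the `P`-part is trivial
-/

namespace Cfsg.Agent.Lib.SmallDegreeTI.Induce

open scoped ComplexConjugate
open scoped Classical
open Cfsg.Agent.Lib.SmallDegreeTI.Setup
open Cfsg.Agent.Lib.Induced.Basic Cfsg.Agent.Lib.Characters.Basic
open Cfsg.Agent.Lib.Characters.Linear

universe u

set_option linter.unusedSectionVars false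

variable {G : Type u} [Group G] [Fintype G] {p : ℕ} [Fact p.Prime] {P : Sylow p G}
variable [Fintype (cen P)] [Fintype (nor P)]

/-- A class function vanishing where the `P`-part is trivial. -/
def Sing (hs : SameCen P) (a : cen P → ℂ) : Prop :=
  Cfsg.IsClassFunction (cen P) a ∧ ∀ c, proj hs c = 1 → a c = 0

/-- The conjugate of a function on `C` by an element of the normaliser. -/
noncomputable def rot (n : nor P) (a : cen P → ℂ) : cen P → ℂ := fun c => a (cj n c)

theorem rot_rot (n m : nor P) (a : cen P → ℂ) : rot m (rot n a) = rot (n * m) a :=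
  funext fun c => by simp only [rot, cj_mul]

theorem rot_one (a : cen P → ℂ) : rot (1 : nor P) a = a := funext fun c => by simp [rot, cj_one]

/-- The conjugate of an irreducible character of `C`. -/
noncomputable def rotI (n : nor P) (φ : Cfsg.IrrCharacter (cen P)) : Cfsg.IrrCharacter (cen P) :=
  ⟨rot n (φ : cen P → ℂ), isIrrCharacter_comp (cj n).toMonoidHom (cj n).surjective φ.2⟩

theorem coe_rotI (n : nor P) (φ : Cfsg.IrrCharacter (cen P)) :
    (rotI n φ : cen P → ℂ) = rot n (φ : cen P → ℂ) := rfl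

theorem rotI_rotI (n m : nor P) (φ : Cfsg.IrrCharacter (cen P)) :
    rotI m (rotI n φ) = rotI (n * m) φ :=
  Subtype.ext (rot_rot n m _)

theorem rotI_one (φ : Cfsg.IrrCharacter (cen P)) : rotI (1 : nor P) φ = φ :=
  Subtype.ext (rot_one _)

/-- Restriction to `C`. -/
def res (χ : G → ℂ) : cen P → ℂ := fun c => χ c

theorem rot_res {χ : G → ℂ} (hχ : Cfsg.IsClassFunction G χ) (n : nor P) :
    rot n (res χ : cen P → ℂ) = res χ :=
  funext fun c => hχ c n

theorem classInner_rot (n : nor P) (a b : cen P → ℂ) :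
    Cfsg.classInner (rot n a) (rot n b) = Cfsg.classInner a b := by
  simp only [Cfsg.classInner, rot]
  congr 1
  exact Fintype.sum_equiv (cj n).toEquiv _ _ fun c => rfl

theorem classInner_res_rot {χ : G → ℂ} (hχ : Cfsg.IsClassFunction G χ) (n : nor P)
    (b : cen P → ℂ) : Cfsg.classInner (res χ) (rot n b) = Cfsg.classInner (res χ) b := by
  conv_lhs => rw [← rot_res hχ n]
  exact classInner_rot n _ _

/-- The average over the normaliser. -/
noncomputable def avg (a : cen P → ℂ) : cen P → ℂ :=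
  fun c => (Nat.card (cen P) : ℂ)⁻¹ * ∑ n : nor P, a (cj n c)

theorem avg_eq (a : cen P → ℂ) : avg a = (Nat.card (cen P) : ℂ)⁻¹ • ∑ n : nor P, rot n a := by
  funext c
  simp [avg, rot, Finset.sum_apply]

theorem avg_sub (a b : cen P → ℂ) : avg (a - b) = avg a - avg b := by
  funext c
  simp [avg, Finset.sum_sub_distrib, mul_sub]

/-- Induction of a function vanishing at trivial `P`-part, on `C`. -/
theorem indFun_eq (hs : SameCen P) {a : cen P → ℂ} (ha : Sing hs a) (c : cen P) :
    Cfsg.indFun (cen P) a (c : G) = avg a c := by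
  by_cases hc : proj hs c = 1
  · rw [avg, Finset.sum_eq_zero (fun n _ => ha.2 _ ((proj_cj_eq_one hs n c).mpr hc)), mul_zero]
    simp only [Cfsg.indFun]
    rw [Finset.sum_eq_zero, mul_zero]
    intro x _
    by_cases hm : x⁻¹ * (c : G) * x ∈ cen P
    · rw [extendByZero_of_mem _ _ hm]
      refine ha.2 _ ?_
      rw [proj_apply] at hc ⊢
      apply Subtype.ext
      have h2 : (x⁻¹ * (c : G) * x) ^ projExp hs = x⁻¹ * (c : G) ^ projExp hs * x := by
        rw [show x⁻¹ * (c : G) * x = MulAut.conj x⁻¹ (c : G) by simp, ← map_pow]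
        simp
      have hc' : (c : G) ^ projExp hs = 1 := by
        rw [← Subgroup.coe_pow, hc, Subgroup.coe_one]
      rw [Subgroup.coe_pow, Subgroup.coe_one, h2, hc', mul_one, inv_mul_cancel]
    · exact extendByZero_of_not_mem _ _ hm
  · simp only [Cfsg.indFun, avg]
    congr 1
    symm
    refine Finset.sum_of_injOn (fun n : nor P => ((n : G))⁻¹) ?_
      (fun _ _ => Finset.mem_univ _) (fun x _ hx => ?_) (fun n _ => ?_)
    · exact fun n _ m _ h => Subtype.ext (inv_injective h)
    · refine extendByZero_of_not_mem _ _ fun hm => hx ?_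
      exact ⟨⟨x⁻¹, inv_mem (mem_nor_of_conj hs hc hm)⟩, Finset.mem_univ _, inv_inv x⟩
    · symm
      show Cfsg.extendByZero (cen P) a ((n : G)⁻¹⁻¹ * (c : G) * (n : G)⁻¹) = a (cj n c)
      have hm : (n : G)⁻¹⁻¹ * (c : G) * (n : G)⁻¹ ∈ cen P := by
        rw [inv_inv]; exact conj_mem_cen n.2 c.2
      rw [extendByZero_of_mem _ _ hm]
      congr 1
      apply Subtype.ext
      rw [cj_coe]
      simp only [inv_inv]

theorem classInner_ind_res (hs : SameCen P) {a : cen P → ℂ} (_ha : Sing hs a) {χ : G → ℂ}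
    (hχ : Cfsg.IsClassFunction G χ) :
    Cfsg.classInner (Cfsg.indFun (cen P) a) χ = Cfsg.classInner a (res χ) :=
  frobenius_reciprocity (cen P) a hχ

theorem classInner_ind_ind (hs : SameCen P) {a b : cen P → ℂ} (_ha : Sing hs a) (hb : Sing hs b) :
    Cfsg.classInner (Cfsg.indFun (cen P) a) (Cfsg.indFun (cen P) b) =
      Cfsg.classInner a (avg b) := by
  rw [frobenius_reciprocity (cen P) a (isClassFunction_indFun _ b)]
  congr 1
  exact funext fun c => indFun_eq hs hb c

theorem indFun_apply_one {hs : SameCen P} {a : cen P → ℂ} (ha : Sing hs a) :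
    Cfsg.indFun (cen P) a 1 = 0 := by
  rw [indFun_one, ha.2 1 (map_one _), mul_zero]

/-! ### Moving characters -/

/-- An irreducible character of `C` that is nontrivial on `P`. -/
def Moving (φ : Cfsg.IrrCharacter (cen P)) : Prop :=
  ∃ y ∈ pc P, (φ : cen P → ℂ) y ≠ (φ : cen P → ℂ) 1

theorem apply_mul_pc (φ : Cfsg.IrrCharacter (cen P)) {y : cen P} (hy : y ∈ pc P) (c : cen P) :
    (φ : cen P → ℂ) (y * c) = (φ : cen P → ℂ) y / (φ : cen P → ℂ) 1 * (φ : cen P → ℂ) c :=
  Cfsg.Agent.Lib.Chars82.PGroupChars.mul_center φ (pc_le_center hy) c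

theorem apply_pc_ne_zero (φ : Cfsg.IrrCharacter (cen P)) {y : cen P} (hy : y ∈ pc P) :
    (φ : cen P → ℂ) y ≠ 0 := by
  intro h
  have := apply_mul_pc φ hy y⁻¹
  rw [mul_inv_cancel, h, zero_div, zero_mul] at this
  exact apply_one_ne_zero φ this

theorem moving_rotI (n : nor P) (φ : Cfsg.IrrCharacter (cen P)) :
    Moving (rotI n φ) ↔ Moving φ := by
  constructor
  · rintro ⟨y, hy, hne⟩
    refine ⟨cj n y, cj_mem_pc hy, fun h => hne ?_⟩
    rw [coe_rotI]
    simp only [rot, map_one]
    exact h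
  · rintro ⟨y, hy, hne⟩
    refine ⟨cj n⁻¹ y, cj_mem_pc hy, fun h => hne ?_⟩
    rw [coe_rotI] at h
    simp only [rot, map_one, ← cj_mul, mul_inv_cancel, cj_one] at h
    exact h

theorem rotI_of_mem {n : nor P} (hn : (n : G) ∈ cen P) (φ : Cfsg.IrrCharacter (cen P)) :
    rotI n φ = φ := by
  refine Subtype.ext (funext fun c => ?_)
  have h : cj n c = (⟨(n : G), hn⟩ : cen P) * c * (⟨(n : G), hn⟩ : cen P)⁻¹ :=
    Subtype.ext (by simp [cj_coe])
  rw [coe_rotI, rot, h]
  exact isClassFunction_irr φ c _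

theorem mem_cen_of_fix (hs : SameCen P) {φ : Cfsg.IrrCharacter (cen P)} (hφ : Moving φ) {n : nor P}
    (h : rotI n φ = φ) : (n : G) ∈ cen P := by
  by_contra hn
  obtain ⟨z, hz, hne⟩ := hφ
  obtain ⟨y, hy, rfl⟩ := exists_commutator_eq hs hn hz
  apply hne
  have hw : (φ : cen P → ℂ) (cj n y) = (φ : cen P → ℂ) y :=
    congrFun (congrArg Subtype.val h) y
  have h2 := apply_mul_pc φ (inv_mem hy) y
  rw [inv_mul_cancel] at h2
  rw [apply_mul_pc φ (inv_mem hy), hw]
  exact h2.symm

/-- The conjugates of a character of `C` under the normaliser. -/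
noncomputable def orb (φ : Cfsg.IrrCharacter (cen P)) : Finset (Cfsg.IrrCharacter (cen P)) :=
  Finset.univ.image fun n : nor P => rotI n φ

theorem mem_orb {φ ψ : Cfsg.IrrCharacter (cen P)} : ψ ∈ orb φ ↔ ∃ n : nor P, rotI n φ = ψ := by
  simp [orb]

theorem mem_orb_self (φ : Cfsg.IrrCharacter (cen P)) : φ ∈ orb φ :=
  mem_orb.mpr ⟨1, rotI_one φ⟩

theorem moving_of_mem_orb {φ ψ : Cfsg.IrrCharacter (cen P)} (hφ : Moving φ) (h : ψ ∈ orb φ) :
    Moving ψ := by
  obtain ⟨n, rfl⟩ := mem_orb.mp h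
  exact (moving_rotI n φ).mpr hφ

theorem orb_symm {φ ψ : Cfsg.IrrCharacter (cen P)} (h : ψ ∈ orb φ) : φ ∈ orb ψ := by
  obtain ⟨n, rfl⟩ := mem_orb.mp h
  exact mem_orb.mpr ⟨n⁻¹, by rw [rotI_rotI, mul_inv_cancel, rotI_one]⟩

theorem orb_trans {φ ψ θ : Cfsg.IrrCharacter (cen P)} (h : ψ ∈ orb φ) (h' : θ ∈ orb ψ) :
    θ ∈ orb φ := by
  obtain ⟨n, rfl⟩ := mem_orb.mp h
  obtain ⟨m, rfl⟩ := mem_orb.mp h'
  exact mem_orb.mpr ⟨n * m, (rotI_rotI n m φ).symm⟩

theorem fibre_card (hs : SameCen P) {φ ψ : Cfsg.IrrCharacter (cen P)} (hφ : Moving φ)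
    (h : ψ ∈ orb φ) :
    ((Finset.univ : Finset (nor P)).filter fun n => rotI n φ = ψ).card = Nat.card (cen P) := by
  obtain ⟨n₀, rfl⟩ := mem_orb.mp h
  rw [← Fintype.card_subtype, ← Nat.card_eq_fintype_card]
  refine Nat.card_congr
    { toFun := fun n => ⟨((n.1 * n₀⁻¹ : nor P) : G), ?_⟩
      invFun := fun c => ⟨(⟨(c : G), cen_le_nor c.2⟩ : nor P) * n₀, ?_⟩
      left_inv := fun n => Subtype.ext (Subtype.ext (by simp))
      right_inv := fun c => Subtype.ext (by simp) }
  · refine mem_cen_of_fix hs hφ ?_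
    rw [← rotI_rotI, n.2, rotI_rotI, mul_inv_cancel, rotI_one]
  · rw [← rotI_rotI, rotI_of_mem (n := ⟨(c : G), cen_le_nor c.2⟩) c.2]

theorem card_orb (hs : SameCen P) {φ : Cfsg.IrrCharacter (cen P)} (hφ : Moving φ) :
    (orb φ).card * Nat.card (cen P) = Nat.card (nor P) := by
  have h := Finset.card_eq_sum_card_fiberwise (s := (Finset.univ : Finset (nor P))) (t := orb φ)
    (f := fun n => rotI n φ) (fun n _ => mem_orb.mpr ⟨n, rfl⟩)
  rw [Finset.sum_congr rfl (fun ψ hψ => fibre_card hs hφ hψ), Finset.sum_const, smul_eq_mul,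
    Finset.card_univ, ← Nat.card_eq_fintype_card] at h
  exact h.symm

theorem classInner_avg (hs : SameCen P) {φ : Cfsg.IrrCharacter (cen P)} (hφ : Moving φ)
    (ψ : Cfsg.IrrCharacter (cen P)) :
    Cfsg.classInner (ψ : cen P → ℂ) (avg (φ : cen P → ℂ)) = if ψ ∈ orb φ then 1 else 0 := by
  rw [avg_eq, classInner_smul_right, classInner_sum_right, map_inv₀, map_natCast]
  have : ∀ n : nor P, Cfsg.classInner (ψ : cen P → ℂ) (rot n (φ : cen P → ℂ)) =
      if rotI n φ = ψ then 1 else 0 := by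
    intro n
    rw [← coe_rotI, classInner_irr]
    exact if_congr eq_comm rfl rfl
  simp only [this]
  rw [Finset.sum_boole]
  split_ifs with h
  · rw [fibre_card hs hφ h, inv_mul_cancel₀ (subgroup_card_ne_zero _)]
  · rw [Finset.filter_eq_empty_iff.mpr fun n _ e => h (mem_orb.mpr ⟨n, e⟩)]
    simp

theorem avg_classInner (hs : SameCen P) {φ : Cfsg.IrrCharacter (cen P)} (hφ : Moving φ)
    (ψ : Cfsg.IrrCharacter (cen P)) :
    Cfsg.classInner (avg (φ : cen P → ℂ)) (ψ : cen P → ℂ) = if ψ ∈ orb φ then 1 else 0 := by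
  rw [← classInner_conj_symm, classInner_avg hs hφ]
  split_ifs <;> simp

/-! ### Families -/

theorem isCharacter_dual {hs : SameCen P} (L : Dual hs) :
    Cfsg.IsCharacter (cen P) (fun c => (L.1 c : ℂ)) :=
  isCharacter_irr (linChar L.1)

/-- Twist of a character by a linear character through the projection. -/
noncomputable def tw {hs : SameCen P} (L : Dual hs) (φ : Cfsg.IrrCharacter (cen P)) :
    Cfsg.IrrCharacter (cen P) :=
  ⟨_, isIrrCharacter_linear_mul (isCharacter_dual L) (by simp) φ.2⟩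

theorem tw_apply {hs : SameCen P} (L : Dual hs) (φ : Cfsg.IrrCharacter (cen P)) (c : cen P) :
    (tw L φ : cen P → ℂ) c = (L.1 c : ℂ) * (φ : cen P → ℂ) c := rfl

theorem tw_of_proj {hs : SameCen P} (L : Dual hs) (φ : Cfsg.IrrCharacter (cen P)) {c : cen P}
    (hc : proj hs c = 1) : (tw L φ : cen P → ℂ) c = (φ : cen P → ℂ) c := by
  rw [tw_apply, L.2 c, hc, map_one, Units.val_one, one_mul]

theorem tw_injective (hs : SameCen P) (φ : Cfsg.IrrCharacter (cen P)) :
    Function.Injective fun L : Dual hs => tw L φ := by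
  intro L M h
  refine Subtype.ext (MonoidHom.ext fun c => Units.ext ?_)
  rw [L.2, M.2]
  have := congrFun (congrArg Subtype.val h) (proj hs c)
  simp only [tw_apply] at this
  exact mul_right_cancel₀ (apply_pc_ne_zero φ (proj_mem hs c)) this

/-- Twists agreeing with a given character on `P` are unique. -/
theorem eq_of_tw_agree (hs : SameCen P) (φ : Cfsg.IrrCharacter (cen P)) {L M : Dual hs}
    (h : ∀ y ∈ pc P, (tw L φ : cen P → ℂ) y / (tw L φ : cen P → ℂ) 1 =
      (tw M φ : cen P → ℂ) y / (tw M φ : cen P → ℂ) 1) : L = M := by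
  refine Subtype.ext (MonoidHom.ext fun c => Units.ext ?_)
  rw [L.2, M.2]
  have := h _ (proj_mem hs c)
  simp only [tw_apply, map_one, Units.val_one, one_mul] at this
  rw [div_left_inj' (apply_one_ne_zero φ)] at this
  exact mul_right_cancel₀ (apply_pc_ne_zero φ (proj_mem hs c)) this

theorem sing_sub_tw (hs : SameCen P) (φ : Cfsg.IrrCharacter (cen P)) (L : Dual hs) :
    Sing hs ((φ : cen P → ℂ) - (tw L φ : cen P → ℂ)) :=
  ⟨fun g h => by
      simp only [Pi.sub_apply]
      rw [isClassFunction_irr φ g h, isClassFunction_irr (tw L φ) g h],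
    fun c hc => by rw [Pi.sub_apply, tw_of_proj L φ hc, sub_self]⟩

/-- At most one twist of a character is not moving. -/
theorem exists_tw_moving (hs : SameCen P) (φ : Cfsg.IrrCharacter (cen P))
    (S : Finset (Cfsg.IrrCharacter (cen P))) (hS : S.card + 1 < Nat.card (P : Subgroup G)) :
    ∃ L : Dual hs, Moving (tw L φ) ∧ tw L φ ∉ S := by
  haveI : Finite (Dual hs) := Nat.finite_of_card_ne_zero (by rw [card_dual hs]; omega)
  letI := Fintype.ofFinite (Dual hs)
  by_contra hall
  push Not at hall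
  have hsub : (Finset.univ : Finset (Dual hs)) ⊆
      (Finset.univ.filter fun L => ¬ Moving (tw L φ)) ∪
        (Finset.univ.filter fun L => tw L φ ∈ S) := by
    intro L _
    by_cases h : Moving (tw L φ)
    · exact Finset.mem_union_right _ (Finset.mem_filter.mpr ⟨Finset.mem_univ _, hall L h⟩)
    · exact Finset.mem_union_left _ (Finset.mem_filter.mpr ⟨Finset.mem_univ _, h⟩)
  have h1 : (Finset.univ.filter fun L : Dual hs => ¬ Moving (tw L φ)).card ≤ 1 := by
    refine Finset.card_le_one.mpr fun L hL M hM => eq_of_tw_agree hs φ fun y hy => ?_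
    have hL' := (Finset.mem_filter.mp hL).2
    have hM' := (Finset.mem_filter.mp hM).2
    simp only [Moving, not_exists, not_and, ne_eq, not_not] at hL' hM'
    rw [hL' y hy, hM' y hy, div_self (apply_one_ne_zero _), div_self (apply_one_ne_zero _)]
  have h2 : (Finset.univ.filter fun L : Dual hs => tw L φ ∈ S).card ≤ S.card :=
    Finset.card_le_card_of_injOn (fun L => tw L φ) (fun L hL => (Finset.mem_filter.mp hL).2)
      (fun L _ M _ h => tw_injective hs φ h)
  have h3 := (Finset.card_le_card hsub).trans (Finset.card_union_le _ _)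
  rw [Finset.card_univ, ← Nat.card_eq_fintype_card, card_dual hs] at h3
  omega

end Cfsg.Agent.Lib.SmallDegreeTI.Induce
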