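import Cfsg.Agent.Lib.Characters.Linear
import Cfsg.Agent.Lib.Chars82.PGroupChars
import Mathlib.GroupTheory.Transfer
import Mathlib.GroupTheory.Sylow
import Mathlib.GroupTheory.FiniteAbelian.Duality

/-!
# A Sylow subgroup whose nontrivial elements have the same centraliser

`C = C(P)`, the projection of `C` onto `P` as a power map, the fusion of `C` in `G`.
-/

namespace Cfsg.Agent.Lib.SmallDegreeTI.Setup

open scoped ComplexConjugate

universe u

set_option linter.unusedSectionVars false

variable {G : Type u} [Group G] [Finite G] {p : ℕ} [Fact p.Prime] (P : Sylow p G)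

/-- The centraliser of the Sylow subgroup. -/
abbrev cen : Subgroup G := Subgroup.centralizer ((P : Subgroup G) : Set G)

/-- The normaliser of the Sylow subgroup. -/
abbrev nor : Subgroup G := Subgroup.normalizer ((P : Subgroup G) : Set G)

/-- All nontrivial elements of `P` have centraliser `C(P)`. -/
def SameCen : Prop :=
  ∀ x ∈ (P : Subgroup G), x ≠ 1 → Subgroup.centralizer ({x} : Set G) = cen P

variable {P}

theorem le_cen (hs : SameCen P) : (P : Subgroup G) ≤ cen P := by
  intro x hx
  by_cases h : x = 1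
  · rw [h]; exact one_mem _
  · rw [← hs x hx h, Subgroup.mem_centralizer_singleton_iff]

theorem comm_P (hs : SameCen P) {x y : G} (hx : x ∈ (P : Subgroup G)) (hy : y ∈ (P : Subgroup G)) :
    x * y = y * x :=
  (Subgroup.mem_centralizer_iff.mp (le_cen hs hy)) x hx

theorem cen_le_nor : cen P ≤ nor P := Subgroup.centralizer_le_normalizer _

theorem mem_nor_iff {n : G} :
    n ∈ nor P ↔ ∀ h, h ∈ (P : Subgroup G) ↔ n * h * n⁻¹ ∈ (P : Subgroup G) :=
  Subgroup.mem_normalizer_iff

theorem conj_mem_cen {n c : G} (hn : n ∈ nor P) (hc : c ∈ cen P) : n * c * n⁻¹ ∈ cen P := by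
  rw [Subgroup.mem_centralizer_iff] at hc ⊢
  intro y hy
  have hy' : n⁻¹ * y * n ∈ (P : Subgroup G) := by
    have h := ((mem_nor_iff.mp (inv_mem hn)) y).mp hy
    rwa [inv_inv] at h
  have := hc _ hy'
  calc y * (n * c * n⁻¹) = n * ((n⁻¹ * y * n) * c) * n⁻¹ := by group
    _ = n * (c * (n⁻¹ * y * n)) * n⁻¹ := by rw [this]
    _ = _ := by group

variable (P) in
/-- The Sylow subgroup as a subgroup of its centraliser. -/
abbrev pc : Subgroup (cen P) := (P : Subgroup G).subgroupOf (cen P)

theorem pc_le_center : pc P ≤ Subgroup.center (cen P) := by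
  intro z hz
  rw [Subgroup.mem_center_iff]
  intro c
  apply Subtype.ext
  exact ((Subgroup.mem_centralizer_iff.mp c.2) z (Subgroup.mem_subgroupOf.mp hz)).symm

theorem card_pc (hs : SameCen P) : Nat.card (pc P) = Nat.card (P : Subgroup G) :=
  Nat.card_congr (Subgroup.subgroupOfEquivOfLe (le_cen hs)).toEquiv

theorem not_dvd_index_pc (hs : SameCen P) : ¬ p ∣ (pc P).index := by
  intro h
  apply P.not_dvd_index
  have := Subgroup.relIndex_mul_index (le_cen hs)
  rw [← this]
  exact dvd_mul_of_dvd_left h _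

/-- An exponent projecting `C` onto `P`. -/
theorem exists_proj (hs : SameCen P) : ∃ k : ℕ,
    (∀ c d : cen P, (c * d) ^ k = c ^ k * d ^ k) ∧
      (∀ c : cen P, ((c ^ k : cen P) : G) ∈ (P : Subgroup G)) ∧
      ∀ y ∈ (P : Subgroup G), y ^ k = y := by
  obtain ⟨n, hn⟩ := IsPGroup.iff_card.mp P.2
  set m := (Subgroup.center (cen P)).index
  set i := (pc P).index
  have hi : ¬ p ∣ i := not_dvd_index_pc hs
  have hm : ¬ p ∣ m := fun h =>
    hi (h.trans (Subgroup.index_dvd_of_le pc_le_center))
  have hnor : (pc P).Normal :=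
    ⟨fun z hz c => by
      rw [Subgroup.mem_center_iff.mp (pc_le_center hz) c, mul_inv_cancel_right]
      exact hz⟩
  have hcop : Nat.Coprime (m * i) (p ^ n) :=
    Nat.Coprime.pow_right n (Nat.Coprime.symm ((Nat.Prime.coprime_iff_not_dvd Fact.out).mpr
      fun h => ((Fact.out : p.Prime).dvd_mul.mp h).elim hm hi))
  obtain ⟨u, hu⟩ : ∃ u, m * i * u ≡ 1 [MOD p ^ n] := by
    haveI : NeZero (p ^ n) := ⟨pow_ne_zero _ (Fact.out : p.Prime).ne_zero⟩
    refine ⟨((m * i : ℕ) : ZMod (p ^ n))⁻¹.val, (ZMod.natCast_eq_natCast_iff _ _ _).mp ?_⟩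
    rw [Nat.cast_mul, ZMod.natCast_zmod_val, Nat.cast_one]
    exact ZMod.coe_mul_inv_eq_one _ hcop
  refine ⟨m * i * u, fun c d => ?_, fun c => ?_, fun y hy => ?_⟩
  · have hpow := map_mul (MonoidHom.transferCenterPow (cen P)) c d
    have hmul : (c * d) ^ m = c ^ m * d ^ m := by
      simp only [m, ← MonoidHom.transferCenterPow_apply, hpow, Subgroup.coe_mul]
    have hc : Commute (c ^ m) (d ^ m) := by
      have := Subgroup.mem_center_iff.mp (MonoidHom.transferCenterPow (cen P) c).2 (d ^ m)
      rw [MonoidHom.transferCenterPow_apply] at this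
      exact this.symm
    rw [mul_assoc m i u, pow_mul, pow_mul c, pow_mul d, hmul, hc.mul_pow]
  · have : c ^ (m * i * u) ∈ pc P := by
      rw [show m * i * u = i * (m * u) by ring, pow_mul]
      exact pow_mem (haveI := hnor; Subgroup.pow_index_mem (pc P) c) _
    exact Subgroup.mem_subgroupOf.mp this
  · have ho : orderOf y ∣ p ^ n := by
      rw [← hn, ← Subgroup.orderOf_mk y hy]
      exact orderOf_dvd_natCard _
    conv_rhs => rw [← pow_one y]
    exact pow_eq_pow_iff_modEq.mpr (hu.of_dvd ho)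

/-- The projection exponent. -/
noncomputable def projExp (hs : SameCen P) : ℕ := (exists_proj hs).choose

/-- The projection of `C` onto `P`. -/
noncomputable def proj (hs : SameCen P) : cen P →* cen P :=
  MonoidHom.mk' (fun c => c ^ projExp hs) (exists_proj hs).choose_spec.1

theorem proj_apply (hs : SameCen P) (c : cen P) : proj hs c = c ^ projExp hs := rfl

theorem proj_mem (hs : SameCen P) (c : cen P) : proj hs c ∈ pc P :=
  Subgroup.mem_subgroupOf.mpr ((exists_proj hs).choose_spec.2.1 c)

theorem pow_projExp (hs : SameCen P) {y : G} (hy : y ∈ (P : Subgroup G)) : y ^ projExp hs = y :=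
  (exists_proj hs).choose_spec.2.2 y hy

theorem proj_of_mem (hs : SameCen P) {c : cen P} (hc : c ∈ pc P) : proj hs c = c :=
  Subtype.ext (pow_projExp hs (Subgroup.mem_subgroupOf.mp hc))

theorem proj_proj (hs : SameCen P) (c : cen P) : proj hs (proj hs c) = proj hs c :=
  proj_of_mem hs (proj_mem hs c)

theorem range_proj (hs : SameCen P) : (proj hs).range = pc P := by
  ext c
  exact ⟨fun ⟨d, hd⟩ => hd ▸ proj_mem hs d, fun hc => ⟨c, proj_of_mem hs hc⟩⟩

theorem card_ker_mul (hs : SameCen P) :
    Nat.card (proj hs).ker * Nat.card (P : Subgroup G) = Nat.card (cen P) := by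
  rw [← card_pc hs, ← range_proj hs, ← Subgroup.index_ker, Subgroup.card_mul_index]

/-- Fusion: two elements of `C` with nontrivial `P`-part are conjugate only in `N(P)`. -/
theorem mem_nor_of_conj (hs : SameCen P) {x : G} {c : cen P} (hc : proj hs c ≠ 1)
    (hx : x⁻¹ * (c : G) * x ∈ cen P) : x ∈ nor P := by
  have hy : ((proj hs c : cen P) : G) ∈ (P : Subgroup G) :=
    Subgroup.mem_subgroupOf.mp (proj_mem hs c)
  set y := ((proj hs c : cen P) : G) with hydef
  have hy1 : y ≠ 1 := fun h => hc (Subtype.ext h)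
  set z := x⁻¹ * y * x with hzdef
  have hz : z ∈ (P : Subgroup G) := by
    have h1 := Subgroup.mem_subgroupOf.mp (proj_mem hs ⟨x⁻¹ * (c : G) * x, hx⟩)
    rw [proj_apply, Subgroup.coe_pow] at h1
    have h2 : (x⁻¹ * (c : G) * x) ^ projExp hs = x⁻¹ * (c : G) ^ projExp hs * x := by
      rw [show x⁻¹ * (c : G) * x = MulAut.conj x⁻¹ (c : G) by simp, ← map_pow]
      simp
    rw [h2] at h1
    exact h1
  have hz1 : z ≠ 1 := fun h => hy1 (by
    have : x * z * x⁻¹ = y := by rw [hzdef]; group
    rw [← this, h, mul_one, mul_inv_cancel])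
  have hnc : ∀ w, w ∈ cen P ↔ x⁻¹ * w * x ∈ cen P := by
    intro w
    conv_lhs => rw [← hs y hy hy1]
    rw [← hs z hz hz1, Subgroup.mem_centralizer_singleton_iff,
      Subgroup.mem_centralizer_singleton_iff, hzdef]
    constructor
    · intro h
      calc x⁻¹ * w * x * (x⁻¹ * y * x) = x⁻¹ * (w * y) * x := by group
        _ = _ := by rw [h]; group
    · intro h
      calc w * y = x * (x⁻¹ * w * x * (x⁻¹ * y * x)) * x⁻¹ := by group
        _ = _ := by rw [h]; group
  have hstep : ∀ w ∈ (P : Subgroup G), x⁻¹ * w * x ∈ (P : Subgroup G) := by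
    intro w hw
    have h1 : x⁻¹ * w * x ∈ cen P := (hnc w).mp (le_cen hs hw)
    have h2 := Subgroup.mem_subgroupOf.mp (proj_mem hs ⟨_, h1⟩)
    rw [proj_apply, Subgroup.coe_pow] at h2
    have h3 : (x⁻¹ * w * x) ^ projExp hs = x⁻¹ * w * x := by
      rw [show x⁻¹ * w * x = MulAut.conj x⁻¹ w by simp, ← map_pow, pow_projExp hs hw]
    rwa [h3] at h2
  have : x⁻¹ ∈ nor P := by
    refine Subgroup.mem_normalizer_fintype (fun w hw => ?_)
    rw [inv_inv]
    exact hstep w hw
  exact inv_mem_iff.mp this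

/-- Conjugation by an element of the normaliser, on `C`. -/
noncomputable def cj (n : nor P) : cen P ≃* cen P where
  toFun c := ⟨n * c * (n : G)⁻¹, conj_mem_cen n.2 c.2⟩
  invFun c := ⟨(n : G)⁻¹ * c * n, by
    have := conj_mem_cen (inv_mem n.2) c.2
    rwa [inv_inv] at this⟩
  left_inv c := Subtype.ext (by show (n : G)⁻¹ * (n * c * (n : G)⁻¹) * n = c; group)
  right_inv c := Subtype.ext (by show (n : G) * ((n : G)⁻¹ * c * n) * (n : G)⁻¹ = c; group)
  map_mul' a b := Subtype.ext (by
    show (n : G) * (a * b) * (n : G)⁻¹ = (n * a * (n : G)⁻¹) * (n * b * (n : G)⁻¹); group)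

theorem cj_coe (n : nor P) (c : cen P) : ((cj n c : cen P) : G) = n * c * (n : G)⁻¹ := rfl

theorem cj_mul (n m : nor P) (c : cen P) : cj (n * m) c = cj n (cj m c) :=
  Subtype.ext (by simp only [cj_coe, Subgroup.coe_mul]; group)

theorem cj_one (c : cen P) : cj (1 : nor P) c = c := Subtype.ext (by simp [cj_coe])

theorem cj_mem_pc {n : nor P} {c : cen P} (hc : c ∈ pc P) : cj n c ∈ pc P :=
  Subgroup.mem_subgroupOf.mpr ((mem_nor_iff.mp n.2 _).mp (Subgroup.mem_subgroupOf.mp hc))

theorem proj_cj (hs : SameCen P) (n : nor P) (c : cen P) : proj hs (cj n c) = cj n (proj hs c) := by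
  rw [proj_apply, proj_apply, map_pow]

theorem proj_cj_eq_one (hs : SameCen P) (n : nor P) (c : cen P) :
    proj hs (cj n c) = 1 ↔ proj hs c = 1 := by
  rw [proj_cj, EmbeddingLike.map_eq_one_iff]

/-- Outside `C(P)` the normaliser moves every element of `P` outside the fixed ones. -/
theorem exists_commutator_eq (hs : SameCen P) {n : nor P} (hn : (n : G) ∉ cen P) {z : cen P}
    (hz : z ∈ pc P) : ∃ y : cen P, y ∈ pc P ∧ y⁻¹ * cj n y = z := by
  let f : pc P → pc P := fun y => ⟨(y : cen P)⁻¹ * cj n y, mul_mem (inv_mem y.2) (cj_mem_pc y.2)⟩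
  have hinj : Function.Injective f := by
    intro a b hab
    have h : (a : cen P)⁻¹ * cj n a = (b : cen P)⁻¹ * cj n b := congrArg Subtype.val hab
    by_contra hne
    have hc : (b : cen P) * (a : cen P)⁻¹ ∈ pc P := mul_mem b.2 (inv_mem a.2)
    have hfix : cj n ((b : cen P) * (a : cen P)⁻¹) = (b : cen P) * (a : cen P)⁻¹ := by
      have h1 : cj n b = (b : cen P) * ((a : cen P)⁻¹ * cj n a) := by rw [h, mul_inv_cancel_left]
      rw [map_mul, map_inv, h1, mul_assoc, mul_assoc, mul_inv_cancel, mul_one]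
    have hne1 : (((b : cen P) * (a : cen P)⁻¹ : cen P) : G) ≠ 1 := fun h1 => hne (by
      have : (b : cen P) * (a : cen P)⁻¹ = 1 := Subtype.ext h1
      exact (Subtype.ext (mul_inv_eq_one.mp this)).symm)
    apply hn
    rw [← hs _ (Subgroup.mem_subgroupOf.mp hc) hne1, Subgroup.mem_centralizer_singleton_iff]
    have := congrArg Subtype.val hfix
    rw [cj_coe] at this
    exact mul_inv_eq_iff_eq_mul.mp this
  obtain ⟨y, hy⟩ := (Finite.injective_iff_surjective.mp hinj) ⟨z, hz⟩
  exact ⟨y, y.2, congrArg Subtype.val hy⟩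

/-- The linear characters of `C` factoring through the projection. -/
abbrev Dual (hs : SameCen P) : Type u := {L : cen P →* ℂˣ // ∀ c, L c = L (proj hs c)}

theorem card_dual (hs : SameCen P) : Nat.card (Dual hs) = Nat.card (P : Subgroup G) := by
  letI : CommGroup (pc P) :=
    { (inferInstance : Group (pc P)) with
      mul_comm := fun a b => Subtype.ext (Subgroup.mem_center_iff.mp (pc_le_center b.2) a) }
  let e : Dual hs ≃ (pc P →* ℂˣ) :=
    { toFun := fun L => L.1.comp (pc P).subtype
      invFun := fun M => ⟨M.comp ((proj hs).codRestrict (pc P) (proj_mem hs)), fun c => by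
        simp only [MonoidHom.comp_apply]
        congr 1
        exact Subtype.ext (proj_proj hs c).symm⟩
      left_inv := fun L => Subtype.ext (MonoidHom.ext fun c => (L.2 c).symm)
      right_inv := fun M => MonoidHom.ext fun y => by
        simp only [MonoidHom.comp_apply]
        congr 1
        exact Subtype.ext (proj_of_mem hs y.2) }
  rw [Nat.card_congr e, CommGroup.card_monoidHom_of_hasEnoughRootsOfUnity, card_pc hs]

end Cfsg.Agent.Lib.SmallDegreeTI.Setup
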