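import Cfsg.Agent.Lib.SmallDegreeTI.Coeff
import Cfsg.Agent.Lib.Isometry.Inner

/-!
# The shape of a small irreducible character on `C(P)`
-/

namespace Cfsg.Agent.Lib.SmallDegreeTI.Structure

open scoped ComplexConjugate
open scoped Classical
open Cfsg.Agent.Lib.SmallDegreeTI.Setup Cfsg.Agent.Lib.SmallDegreeTI.Induce
open Cfsg.Agent.Lib.SmallDegreeTI.Coeff
open Cfsg.Agent.Lib.Induced.Basic Cfsg.Agent.Lib.Characters.Basic

universe u

set_option linter.unusedSectionVars false

variable {G : Type u} [Group G] [Fintype G] {p : ℕ} [Fact p.Prime] {P : Sylow p G}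
variable [Fintype (cen P)] [Fintype (nor P)] [Fintype (Cfsg.IrrCharacter (cen P))]

theorem isCharacter_res {χ : G → ℂ} (h : Cfsg.IsCharacter G χ) :
    Cfsg.IsCharacter (cen P) (res χ) :=
  isCharacter_comp (cen P).subtype h

theorem mult_rotI {χ : G → ℂ} (h : Cfsg.IsCharacter G χ) (n : nor P)
    (φ : Cfsg.IrrCharacter (cen P)) : mult (res χ) (rotI n φ) = mult (res χ) φ := by
  simp only [mult, coe_rotI, classInner_res_rot (isClassFunction_of_isCharacter h)]

theorem orb_subset_pres {χ : G → ℂ} (h : Cfsg.IsCharacter G χ) {φ : Cfsg.IrrCharacter (cen P)}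
    (hφ : φ ∈ pres (res χ)) : orb φ ⊆ pres (res χ) := by
  intro ψ hψ
  obtain ⟨n, rfl⟩ := mem_orb.mp hψ
  rwa [mem_pres, mult_rotI h, ← mem_pres]

theorem orb_subset_moving {χ : G → ℂ} (h : Cfsg.IsCharacter G χ) {φ : Cfsg.IrrCharacter (cen P)}
    (hφ : φ ∈ pres (res χ)) (hm : Moving φ) : orb φ ⊆ (pres (res χ)).filter Moving :=
  fun _ hψ => Finset.mem_filter.mpr ⟨orb_subset_pres h hφ hψ, moving_of_mem_orb hm hψ⟩

theorem card_moving_le (hs : SameCen P) {χ : G → ℂ} (h : Cfsg.IsCharacter G χ) {x : ℕ}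
    (hx : χ 1 = x) : ((pres (res χ : cen P → ℂ)).filter Moving).card ≤ x := by
  obtain ⟨F, hF⟩ := exists_fixd hs (isCharacter_res (P := P) h)
  have := card_add_fixd_le hs (isCharacter_res (P := P) h) (D := x) (by simpa [res] using hx) hF
  omega

theorem card_orb_eq (hs : SameCen P) {φ ψ : Cfsg.IrrCharacter (cen P)} (hφ : Moving φ)
    (hψ : Moving ψ) : (orb φ).card = (orb ψ).card :=
  Nat.eq_of_mul_eq_mul_right Nat.card_pos ((card_orb hs hφ).trans (card_orb hs hψ).symm)

/-- A small irreducible character with a moving constituent has no fixed constituent. -/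
theorem no_fixed (hs : SameCen P) (χ : Cfsg.IrrCharacter G) {x : ℕ} (hx : (χ : G → ℂ) 1 = x)
    (hq : x ^ 2 < Nat.card (P : Subgroup G)) {φ : Cfsg.IrrCharacter (cen P)}
    (hφ : φ ∈ pres (res (χ : G → ℂ))) (hm : Moving φ) :
    ∀ f ∈ pres (res (χ : G → ℂ) : cen P → ℂ), Moving f := by
  intro f hf
  by_contra hfix
  set e := (orb φ).card with he
  have hcl := isClassFunction_irr χ
  let a : cen P → ℂ := fun c => if proj hs c = 1 then 0 else (χ : G → ℂ) c
  have ha : Sing hs a := by
    refine ⟨fun g h => ?_, fun c hc => if_pos hc⟩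
    refine if_congr ?_ rfl (hcl g h)
    rw [map_mul, map_mul, map_inv, conj_eq_one_iff]
  have havg : avg a = (e : ℂ) • a := by
    funext c
    have : ∀ n : nor P, a (cj n c) = a c := fun n =>
      if_congr (proj_cj_eq_one hs n c) rfl (hcl (c : G) (n : G))
    have hcard : (Nat.card (nor P) : ℂ) = (e : ℂ) * Nat.card (cen P) := by
      rw [← Nat.cast_mul, he, card_orb hs hm]
    simp only [avg, this, Finset.sum_const, Finset.card_univ, nsmul_eq_mul, Pi.smul_apply,
      smul_eq_mul, ← Nat.card_eq_fintype_card, hcard]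
    field_simp [subgroup_card_ne_zero (cen P)]
  set s := Cfsg.classInner a a with hs'
  have h1 : Cfsg.classInner (Cfsg.indFun (cen P) a) (χ : G → ℂ) = s := by
    rw [classInner_ind_res hs ha hcl, hs', Cfsg.classInner, Cfsg.classInner]
    congr 1
    refine Finset.sum_congr rfl fun c _ => ?_
    simp only [a, res]
    split_ifs <;> simp
  have h2 : Cfsg.classInner (Cfsg.indFun (cen P) a) (Cfsg.indFun (cen P) a) = (e : ℂ) * s := by
    rw [classInner_ind_ind hs ha ha, havg, classInner_smul_right, map_natCast]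
  have h3 : s.re ≤ e := by
    have h0 := Cfsg.Agent.Lib.Isometry.Inner.classInner_self_re_nonneg
      ((e : ℂ) • (χ : G → ℂ) - Cfsg.indFun (cen P) a)
    have h1' : Cfsg.classInner (χ : G → ℂ) (Cfsg.indFun (cen P) a) = conj s := by
      rw [← h1, classInner_conj_symm]
    rw [classInner_sub_left, classInner_sub_right, classInner_sub_right, classInner_smul_left,
      classInner_smul_left, classInner_smul_right, classInner_smul_right, h1, h1', h2,
      classInner_self_irr, map_natCast] at h0
    simp only [Complex.sub_re, Complex.mul_re, Complex.natCast_re, Complex.natCast_im,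
      Complex.conj_re, Complex.one_re, zero_mul, sub_zero, mul_one] at h0
    have he0 : (0 : ℝ) < e := by
      have : 0 < e := Finset.card_pos.mpr ⟨φ, mem_orb_self φ⟩
      exact_mod_cast this
    nlinarith
  have h4 : (Cfsg.classInner (res (χ : G → ℂ) : cen P → ℂ) (res (χ : G → ℂ))).re ≤
      s.re + (x : ℝ) ^ 2 / Nat.card (P : Subgroup G) := by
    set K := (Finset.univ : Finset (cen P)).filter fun c => proj hs c = 1 with hK
    have hsplit : Cfsg.classInner (res (χ : G → ℂ) : cen P → ℂ) (res (χ : G → ℂ)) =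
        s + (Nat.card (cen P) : ℂ)⁻¹ * ∑ c ∈ K, (χ : G → ℂ) c * conj ((χ : G → ℂ) c) := by
      rw [hs', Cfsg.classInner, Cfsg.classInner, hK, Finset.sum_filter, ← mul_add,
        ← Finset.sum_add_distrib]
      congr 1
      refine Finset.sum_congr rfl fun c _ => ?_
      simp only [a, res]
      split_ifs <;> simp
    have hb : ∀ c ∈ K, ((χ : G → ℂ) c * conj ((χ : G → ℂ) c)).re ≤ (x : ℝ) ^ 2 := by
      intro c _
      rw [Complex.mul_conj', ← Complex.ofReal_pow, Complex.ofReal_re]
      have := norm_apply_le (isCharacter_irr χ) (c : G)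
      rw [hx, Complex.norm_natCast] at this
      exact pow_le_pow_left₀ (norm_nonneg _) this 2
    have hKcard : (K.card : ℝ) * Nat.card (P : Subgroup G) = Nat.card (cen P) := by
      have : K.card = Nat.card (proj hs).ker := by
        rw [hK, ← Fintype.card_subtype, ← Nat.card_eq_fintype_card]
        exact Nat.card_congr (Equiv.subtypeEquivRight fun c => Iff.rfl)
      rw [this, ← Nat.cast_mul, card_ker_mul hs]
    rw [hsplit, Complex.add_re, ← Complex.ofReal_natCast, ← Complex.ofReal_inv,
      Complex.re_ofReal_mul, Complex.re_sum]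
    have hC : (0 : ℝ) < Nat.card (cen P) := by exact_mod_cast Nat.card_pos
    have hP : (0 : ℝ) < Nat.card (P : Subgroup G) := by exact_mod_cast Nat.card_pos
    refine add_le_add le_rfl ?_
    calc (Nat.card (cen P) : ℝ)⁻¹ * ∑ c ∈ K, ((χ : G → ℂ) c * conj ((χ : G → ℂ) c)).re
        ≤ (Nat.card (cen P) : ℝ)⁻¹ * (K.card * (x : ℝ) ^ 2) := by
          refine mul_le_mul_of_nonneg_left ?_ (inv_nonneg.mpr hC.le)
          calc _ ≤ ∑ _c ∈ K, (x : ℝ) ^ 2 := Finset.sum_le_sum hb
            _ = _ := by rw [Finset.sum_const, nsmul_eq_mul]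
      _ = _ := by
          rw [eq_div_iff hP.ne', ← hKcard]
          have : (K.card : ℝ) ≠ 0 := fun h => by rw [h, zero_mul] at hKcard; exact hC.ne hKcard
          field_simp
  have h5 : ((insert f (orb φ)).card : ℝ) ≤
      (Cfsg.classInner (res (χ : G → ℂ) : cen P → ℂ) (res (χ : G → ℂ))).re :=
    norm_sq_ge (isCharacter_res (isCharacter_irr χ)) _
      (Finset.insert_subset hf (orb_subset_pres (isCharacter_irr χ) hφ))
  rw [Finset.card_insert_of_notMem fun h => hfix (moving_of_mem_orb hm h), Nat.cast_add,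
    Nat.cast_one, ← he] at h5
  have hP : (0 : ℝ) < Nat.card (P : Subgroup G) := by exact_mod_cast Nat.card_pos
  have h6 : (x : ℝ) ^ 2 / Nat.card (P : Subgroup G) < 1 := by
    rw [div_lt_one hP]; exact_mod_cast hq
  linarith

/-- The other character paired with a small character by an exceptional difference. -/
theorem exists_mate (hs : SameCen P) (χ : Cfsg.IrrCharacter G) {φ φ' : Cfsg.IrrCharacter (cen P)}
    (L : Dual hs) (hL : φ' = tw L φ) (hm : Moving φ) (hm' : Moving φ')
    (hne : φ' ∉ orb φ) (hφ : φ ∈ pres (res (χ : G → ℂ))) (hφ' : φ' ∉ pres (res (χ : G → ℂ))) :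
    mult (res (χ : G → ℂ)) φ = 1 ∧ ∃ B : Cfsg.IrrCharacter G, B ≠ χ ∧
      Cfsg.indFun (cen P) ((φ : cen P → ℂ) - (φ' : cen P → ℂ)) = (χ : G → ℂ) - (B : G → ℂ) ∧
      ∀ f : Cfsg.IrrCharacter (cen P), (mult (res (B : G → ℂ)) f : ℂ) =
        mult (res (χ : G → ℂ)) f - (if f ∈ orb φ then 1 else 0) + if f ∈ orb φ' then 1 else 0 := by
  subst hL
  set a := (φ : cen P → ℂ) - (tw L φ : cen P → ℂ) with hadef
  have ha : Sing hs a := sing_sub_tw hs φ L
  have hgen : Cfsg.IsGeneralizedCharacter G (Cfsg.indFun (cen P) a) :=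
    Cfsg.Agent.Lib.Induced.Character.isGeneralizedCharacter_indFun (cen P)
      (Cfsg.Agent.Lib.Induced.Generalized.isGen_sub
        (Cfsg.Agent.Lib.Induced.Generalized.of_irr φ)
        (Cfsg.Agent.Lib.Induced.Generalized.of_irr (tw L φ)))
  have hnorm : Cfsg.classInner (Cfsg.indFun (cen P) a) (Cfsg.indFun (cen P) a) = 2 := by
    rw [classInner_ind_ind hs ha ha, hadef, avg_sub, classInner_sub_left, classInner_sub_right,
      classInner_sub_right, classInner_avg hs hm, classInner_avg hs hm', classInner_avg hs hm,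
      classInner_avg hs hm', if_pos (mem_orb_self φ), if_pos (mem_orb_self _), if_neg hne,
      if_neg fun h => hne (orb_symm h)]
    ring
  obtain ⟨A, B, hAB, hdec⟩ := Cfsg.Agent.Lib.Induced.Generalized.exists_sub_of_norm_two hgen hnorm
    (indFun_apply_one ha)
  have hval : (mult (res (χ : G → ℂ)) φ : ℂ) =
      (if A = χ then 1 else 0) - if B = χ then 1 else 0 := by
    have h1 := classInner_ind_res hs ha (isClassFunction_irr χ)
    rw [hdec, classInner_sub_left, classInner_irr, classInner_irr, hadef, classInner_sub_left,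
      ← classInner_conj_symm (res (χ : G → ℂ)) (φ : cen P → ℂ),
      ← classInner_conj_symm (res (χ : G → ℂ)) (tw L φ : cen P → ℂ),
      classInner_eq_mult (isCharacter_res (isCharacter_irr χ)),
      classInner_eq_mult (isCharacter_res (isCharacter_irr χ)), map_natCast, map_natCast,
      not_not.mp (mt mem_pres.mpr hφ'), Nat.cast_zero, sub_zero] at h1
    exact h1.symm
  have h0 := mem_pres.mp hφ
  obtain ⟨hA, hone⟩ : A = χ ∧ mult (res (χ : G → ℂ)) φ = 1 := by
    by_cases hA : A = χ
    · refine ⟨hA, ?_⟩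
      rw [if_pos hA, if_neg (fun hB => hAB (hA.trans hB.symm)), sub_zero] at hval
      exact_mod_cast hval
    · exfalso
      by_cases hB : B = χ
      · rw [if_neg hA, if_pos hB, zero_sub] at hval
        have hz : ((mult (res (χ : G → ℂ)) φ : ℤ) : ℂ) = ((-1 : ℤ) : ℂ) := by
          push_cast; exact hval
        have := Int.cast_injective hz
        omega
      · rw [if_neg hA, if_neg hB, sub_zero, Nat.cast_eq_zero] at hval
        exact h0 hval
  refine ⟨hone, B, fun h => hAB (hA.trans h.symm), by rw [hdec, hA], fun f => ?_⟩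
  have hB : (res (B : G → ℂ) : cen P → ℂ) = res (χ : G → ℂ) - avg a := by
    funext c
    have := congrFun hdec (c : G)
    rw [indFun_eq hs ha c, Pi.sub_apply, hA] at this
    rw [Pi.sub_apply, this]
    simp [res]
  rw [← classInner_eq_mult (isCharacter_res (isCharacter_irr B)), hB, hadef, avg_sub,
    classInner_sub_left, classInner_sub_left, avg_classInner hs hm, avg_classInner hs hm',
    classInner_eq_mult (isCharacter_res (isCharacter_irr χ))]
  ring

/-- With room in the family, the moving constituents form one orbit. -/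
theorem single_orbit (hs : SameCen P) (χ : Cfsg.IrrCharacter G)
    {φ : Cfsg.IrrCharacter (cen P)} (hφ : φ ∈ pres (res (χ : G → ℂ))) (hm : Moving φ)
    (hroom : ((pres (res (χ : G → ℂ) : cen P → ℂ)).filter Moving).card + (orb φ).card + 1 <
      Nat.card (P : Subgroup G)) :
    (pres (res (χ : G → ℂ) : cen P → ℂ)).filter Moving = orb φ := by
  set M := (pres (res (χ : G → ℂ) : cen P → ℂ)).filter Moving
  refine Finset.Subset.antisymm (fun ψ hψ => ?_) (orb_subset_moving (isCharacter_irr χ) hφ hm)
  by_contra hψo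
  obtain ⟨hψp, hψm⟩ := Finset.mem_filter.mp hψ
  obtain ⟨L, hLm, hL⟩ := exists_tw_moving hs φ M (by omega)
  set φ₃ := tw L φ
  have h3p : φ₃ ∉ pres (res (χ : G → ℂ)) := fun h => hL (Finset.mem_filter.mpr ⟨h, hLm⟩)
  have h3o : φ₃ ∉ orb φ := fun h => h3p (orb_subset_pres (isCharacter_irr χ) hφ h)
  obtain ⟨L', hL'm, hL'⟩ := exists_tw_moving hs ψ (M ∪ orb φ₃) (by
    have := Finset.card_union_le M (orb φ₃)
    have := card_orb_eq hs hLm hm
    have : orb φ₃ = orb (tw L φ) := rfl
    omega)
  set φ₄ := tw L' ψ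
  rw [Finset.mem_union, not_or] at hL'
  have h4p : φ₄ ∉ pres (res (χ : G → ℂ)) := fun h => hL'.1 (Finset.mem_filter.mpr ⟨h, hL'm⟩)
  have h4o : φ₄ ∉ orb ψ := fun h => h4p (orb_subset_pres (isCharacter_irr χ) hψp h)
  obtain ⟨-, B, hBne, hB, -⟩ := exists_mate hs χ L rfl hm hLm h3o hφ h3p
  obtain ⟨-, B', hBne', hB', -⟩ := exists_mate hs χ L' rfl hψm hL'm h4o hψp h4p
  have h := classInner_ind_ind hs (sing_sub_tw hs φ L) (sing_sub_tw hs ψ L')
  rw [hB, hB', avg_sub, classInner_sub_left, classInner_sub_right, classInner_sub_right,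
    classInner_irr, classInner_irr, classInner_irr, classInner_irr, classInner_sub_left,
    classInner_sub_right, classInner_sub_right, classInner_avg hs hψm, classInner_avg hs hL'm,
    classInner_avg hs hψm, classInner_avg hs hL'm,
    if_pos rfl, if_neg hBne, if_neg (Ne.symm hBne'),
    if_neg (fun h => hψo (orb_symm h)),
    if_neg (fun h => h4p (orb_subset_pres (isCharacter_irr χ) hφ (orb_symm h))),
    if_neg (fun h => h3p (orb_subset_pres (isCharacter_irr χ) hψp h)),
    if_neg (fun h => hL'.2 (orb_symm h))] at h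
  by_cases hBB : B = B'
  · rw [if_pos hBB] at h
    norm_num at h
  · rw [if_neg hBB] at h
    norm_num at h

end Cfsg.Agent.Lib.SmallDegreeTI.Structure
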